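import Cfsg.Agent.Lib.Alperin.Invariant
import Cfsg.Agent.Lib.FusionBasics.Criterion.DGroup
import Cfsg.Agent.Lib.FusionBasics.Criterion.Tools
import Cfsg.Agent.Lib.FusionSub.Puig

/-!
Isomorphisms agreeing on a subgroup; transport of automorphism groups of invariant subsystems.
-/

set_option autoImplicit false
set_option linter.style.haveILetI false

namespace CfsgLib.FusionBasics.Meet

open Cfsg Cfsg.FusionSystem CfsgLib.Alperin CfsgLib.FusionBasics CfsgLib.FusionSub

variable {Ω : Type*} [Group Ω] {S T : Subgroup Ω}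

/-- `f` agrees with `a` on the common part of their sources. -/
def Agree {R R' A A' : Subgroup Ω} (f : R ≃* R') (a : A ≃* A') : Prop :=
  ∀ (x : Ω) (hR : x ∈ R) (hA : x ∈ A), ((f ⟨x, hR⟩ : R') : Ω) = (a ⟨x, hA⟩ : A')

variable {R R' R'' A A' A'' : Subgroup Ω}

theorem Agree.trans {f : R ≃* R'} {a : A ≃* A'} {f' : R' ≃* R''} {a' : A' ≃* A''}
    (h : Agree f a) (h' : Agree f' a') : Agree (f.trans f') (a.trans a') := by
  intro x hR hA
  have hm : (a ⟨x, hA⟩ : Ω) ∈ R' := h x hR hA ▸ (f ⟨x, hR⟩).2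
  refine Eq.trans ?_ (h' _ hm (a ⟨x, hA⟩).2)
  exact congrArg (fun z : R' => (f' z : Ω)) (Subtype.ext (h x hR hA))

theorem Agree.symm {f : R ≃* R'} {a : A ≃* A'} (h : Agree f a) (hAR : A ≤ R) :
    Agree f.symm a.symm := by
  intro y hR hA
  obtain ⟨⟨x, hx⟩, he⟩ := a.surjective ⟨y, hA⟩
  have h1 : f ⟨x, hAR hx⟩ = ⟨y, hR⟩ := Subtype.ext ((h x _ hx).trans (congrArg Subtype.val he))
  rw [← he, ← h1, MulEquiv.symm_apply_apply, MulEquiv.symm_apply_apply]

theorem Agree.mul {f g : MulAut R} {a b : MulAut A} (h : Agree f a) (h' : Agree g b) :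
    Agree (f * g) (a * b) :=
  Agree.trans h' h

theorem agree_one : Agree (1 : MulAut R) (1 : MulAut A) := fun _ _ _ => rfl

theorem Agree.inv {f : MulAut R} {a : MulAut A} (h : Agree f a) (hAR : A ≤ R) :
    Agree f⁻¹ a⁻¹ :=
  h.symm hAR

theorem Agree.pow {f : MulAut R} {a : MulAut A} (h : Agree f a) : ∀ n : ℕ, Agree (f ^ n) (a ^ n)
  | 0 => agree_one
  | n + 1 => by rw [pow_succ, pow_succ]; exact (h.pow n).mul h

theorem Agree.congr {f : MulAut R} {a : MulAut A} (h : Agree f a) {e : R ≃* R'} {u : A ≃* A'}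
    (he : Agree e u) (hAR : A ≤ R) : Agree (MulAut.congr e f) (MulAut.congr u a) :=
  (he.symm hAR).trans (h.trans he)

theorem Agree.eq {f : R ≃* R'} {a b : A ≃* A'} (h : Agree f a) (h' : Agree f b) (hAR : A ≤ R) :
    a = b :=
  MulEquiv.ext fun ⟨x, hx⟩ => Subtype.ext ((h x (hAR hx) hx).symm.trans (h' x (hAR hx) hx))

/-- The membership of an isomorphism in the system. -/
def InHom (F : FusionSystem S) {A A' : Subgroup Ω} (e : A ≃* A') : Prop :=
  A'.subtype.comp e.toMonoidHom ∈ F.Hom A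

theorem inHom_refl (F : FusionSystem S) (hA : A ≤ S) : InHom F (MulEquiv.refl A) :=
  mem_of_apply_eq (incl_mem F hA) fun _ => rfl

theorem InHom.trans {F : FusionSystem S} {e : A ≃* A'} {e' : A' ≃* A''} (h : InHom F e)
    (h' : InHom F e') : InHom F (e.trans e') :=
  comp_mem_apply h h' (fun x => (e x).2) fun _ => rfl

theorem InHom.symm {F : FusionSystem S} {e : A ≃* A'} (h : InHom F e) : InHom F e.symm :=
  equiv_symm_mem h

theorem InHom.isConj {F : FusionSystem S} {e : A ≃* A'} (h : InHom F e) : F.IsConj A A' :=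
  ⟨_, h, equiv_range e⟩

theorem InHom.of_agree {F : FusionSystem S} {f : R ≃* R'} {a : A ≃* A'} (hf : InHom F f)
    (h : Agree f a) (hAR : A ≤ R) : InHom F a :=
  restrict_mem_apply hf hAR fun x => (h x (hAR x.2) x.2).symm

theorem inHom_aut {F : FusionSystem S} (hA : A ≤ S) {a : MulAut A} :
    InHom F a ↔ a ∈ F.autGroup A :=
  (mem_autGroup_iff F hA).symm

/-- An isomorphism of the system restricts to every subgroup of its source. -/
theorem exists_restrict {F : FusionSystem S} {f : R ≃* R'} (hf : InHom F f) (hAR : A ≤ R)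
    (hA' : (A.subgroupOf R).map (R'.subtype.comp f.toMonoidHom) = A') :
    ∃ a : A ≃* A', InHom F a ∧ Agree f a := by
  obtain ⟨a, ha, hax⟩ := exists_iso hf hAR hA'
  exact ⟨a, ha, fun x hR hA => (hax ⟨x, hA⟩).symm⟩

theorem exists_autAgree {F : FusionSystem S} [Finite S] {ψ : MulAut R} (hψ : ψ ∈ F.autGroup R)
    (hRS : R ≤ S) (hAR : A ≤ R) (hst : ∀ (x : Ω) (hx : x ∈ R), x ∈ A → (ψ ⟨x, hx⟩ : Ω) ∈ A) :
    ∃ a ∈ F.autGroup A, Agree ψ a := by
  haveI := finite_of_le (hAR.trans hRS)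
  obtain ⟨a, ha, hax⟩ := exists_aut_of_hom' F (restrict_mem ((mem_autGroup_iff F hRS).mp hψ) hAR)
    (fun x => hst x (hAR x.2) x.2)
  exact ⟨a, ha, fun x hR hA => (hax ⟨x, hA⟩).symm⟩

/-- A strongly closed subgroup is preserved by every map of the system. -/
theorem InHom.mem_iff {F : FusionSystem S} (hT : F.StronglyClosed T) {e : A ≃* A'} (h : InHom F e)
    (x : A) : (x : Ω) ∈ T ↔ (e x : Ω) ∈ T := by
  constructor
  · exact fun hx => stronglyClosed_apply hT h x hx
  · intro hx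
    have := stronglyClosed_apply hT h.symm (e x) hx
    simpa using this

theorem InHom.map_inf {F : FusionSystem S} (hT : F.StronglyClosed T) {e : A ≃* A'}
    (h : InHom F e) : (((A ⊓ T).subgroupOf A).map (A'.subtype.comp e.toMonoidHom)) = A' ⊓ T := by
  ext y
  constructor
  · rintro ⟨w, hw, rfl⟩
    exact ⟨(e w).2, (h.mem_iff hT w).mp hw.2⟩
  · rintro ⟨hy, hyT⟩
    obtain ⟨w, hw⟩ := e.surjective ⟨y, hy⟩
    have hwy : (e w : Ω) = y := congrArg Subtype.val hw
    exact ⟨w, ⟨w.2, (h.mem_iff hT w).mpr (hwy ▸ hyT)⟩, hwy⟩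

/-- Invariant subsystems: transport of `Aut_E` along isomorphisms of `F`. -/
theorem congr_mem_sub {E : FusionSystem T} {F : FusionSystem S} (hE : E.IsInvariantIn F)
    {e : A ≃* A'} (he : InHom F e) (hA : A ≤ T) {β : MulAut A} (hβ : β ∈ E.autGroup A) :
    MulAut.congr e β ∈ E.autGroup A' := by
  have h := congr_mem_autGroup (E := E) (F := F) hE.2.2.1 (hE.2.2.2 A hA _ he)
    (F.injective_of_mem he) (equiv_range e) hβ
  have : isoOfHom _ (F.injective_of_mem he) (equiv_range e) = e :=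
    MulEquiv.ext fun x => Subtype.ext rfl
  rwa [this] at h

theorem conj_mem_sub {E : FusionSystem T} {F : FusionSystem S} (hE : E.IsInvariantIn F)
    (hA : A ≤ T) {a b : MulAut A} (ha : a ∈ F.autGroup A) (hb : b ∈ E.autGroup A) :
    a * b * a⁻¹ ∈ E.autGroup A := by
  have h := congr_mem_sub hE ((inHom_aut (hA.trans hE.2.1.1)).mpr ha) hA hb
  exact h

theorem congr_apply_coe {e : A ≃* A'} (β : MulAut A) (x : A) :
    ((MulAut.congr e β (e x) : A') : Ω) = e (β x) := by
  show ((e (β (e.symm (e x))) : A') : Ω) = _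
  rw [MulEquiv.symm_apply_apply]

theorem congr_congr {e : A ≃* A'} {e' : A' ≃* A''} (β : MulAut A) :
    MulAut.congr e' (MulAut.congr e β) = MulAut.congr (e.trans e') β :=
  MulEquiv.ext fun _ => rfl

theorem orderOf_congr {e : A ≃* A'} (β : MulAut A) : orderOf (MulAut.congr e β) = orderOf β :=
  (MulAut.congr e).orderOf_eq β

end CfsgLib.FusionBasics.Meet
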