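import Cfsg.Agent.Lib.FusionBasics.Meet.Defs
import Cfsg.Agent.Lib.Alperin.ClassT
import Cfsg.Agent.Lib.FusionSub.LocalGlobal

/-!
`Q C_S(Q)` for fully normalized `T`-centric `Q`; the meet of two normal subsystems.
-/

set_option autoImplicit false
set_option linter.style.haveILetI false
set_option linter.unusedSectionVars false

namespace CfsgLib.FusionBasics.Meet

open Cfsg Cfsg.FusionSystem CfsgLib.Alperin CfsgLib.FusionBasics CfsgLib.FusionSub

variable {Ω : Type*} [Group Ω] {S T T' T₁ T₂ : Subgroup Ω}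

/-- Two normal subsystems of a saturated system over a `p`-group. -/
structure MeetData (F : FusionSystem S) (E₁ : FusionSystem T₁) (E₂ : FusionSystem T₂) (p : ℕ) :
    Prop where
  pgroup : IsPGroup p S
  saturated : F.IsSaturated p
  normal₁ : E₁.IsNormalIn F p
  normal₂ : E₂.IsNormalIn F p

section Centric

variable [Finite S] {p : ℕ} [Fact p.Prime] {F : FusionSystem S} {Q : Subgroup Ω}

theorem xset_inf_eq (hT : F.StronglyClosed T) (hQ : TCentric F T Q) : xset S Q ⊓ T = Q := by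
  refine le_antisymm ?_ (le_inf (le_xset S Q) hQ.1)
  rintro x ⟨hx, hxT⟩
  have hx' : x ∈ Q ⊔ centralizerIn S Q := hx
  rw [← SetLike.mem_coe, Subgroup.coe_mul_of_right_le_normalizer_left _ _
    (fun c hc => (centralizerIn_le_normalizerIn S Q hc).2)] at hx'
  obtain ⟨q, hq, c, hc, rfl⟩ := hx'
  have hcT : c ∈ T := by simpa using T.mul_mem (T.inv_mem (hQ.1 hq)) hxT
  exact Q.mul_mem hq (hQ.2 Q (isConj_refl F (hQ.1.trans hT.1)) ⟨hcT, hc.2⟩)

theorem mem_normalizer_inf {A B : Subgroup Ω} {g : Ω}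
    (hA : g ∈ Subgroup.normalizer (A : Set Ω)) (hB : g ∈ Subgroup.normalizer (B : Set Ω)) :
    g ∈ Subgroup.normalizer ((A ⊓ B : Subgroup Ω) : Set Ω) :=
  Subgroup.mem_normalizer_iff.mpr fun x =>
    and_congr (Subgroup.mem_normalizer_iff.mp hA x) (Subgroup.mem_normalizer_iff.mp hB x)

theorem normalizerIn_le_xset (F : FusionSystem S) (hQ : Q ≤ S) :
    normalizerIn S Q ≤ normalizerIn S (xset S Q) := by
  intro g hg
  refine ⟨hg.1, normalizer_of_induced (α := ?_) ?_⟩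
  · exact (MulAut.conj g).subgroupMap (xset S Q) |>.trans (MulEquiv.subgroupCongr (by
      have key : ∀ a, a ∈ normalizerIn S Q → ∀ x ∈ xset S Q, a * x * a⁻¹ ∈ xset S Q := by
        intro a ha x hx
        have : xset S Q ≤ (xset S Q).comap (MulAut.conj a).toMonoidHom := by
          refine sup_le (fun q hq => le_xset S Q (mem_normalizer_conj ha.2 hq)) fun c hc => ?_
          refine centralizerIn_le_xset S Q ⟨S.mul_mem (S.mul_mem ha.1 hc.1) (S.inv_mem ha.1), ?_⟩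
          intro q hq
          have h1 : a⁻¹ * q * a⁻¹⁻¹ ∈ Q := mem_normalizer_conj (Subgroup.inv_mem _ ha.2) hq
          have h2 := hc.2 _ h1
          show q * (a * c * a⁻¹) = a * c * a⁻¹ * q
          calc q * (a * c * a⁻¹) = a * ((a⁻¹ * q * a⁻¹⁻¹) * c) * a⁻¹ := by group
            _ = a * (c * (a⁻¹ * q * a⁻¹⁻¹)) * a⁻¹ := by rw [h2]
            _ = a * c * a⁻¹ * q := by group
        exact this hx
      refine le_antisymm ?_ fun x hx => ?_
      · rintro _ ⟨x, hx, rfl⟩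
        exact key g hg x hx
      · exact ⟨g⁻¹ * x * g⁻¹⁻¹, key _ ((normalizerIn S Q).inv_mem hg) x hx, by
          show g * (g⁻¹ * x * g⁻¹⁻¹) * g⁻¹ = x
          group⟩))
  · intro x
    rfl

theorem normalizerIn_xset (hT : F.StronglyClosed T) (hQ : TCentric F T Q) :
    normalizerIn S (xset S Q) = normalizerIn S Q := by
  refine le_antisymm (fun g hg => ⟨hg.1, ?_⟩) (normalizerIn_le_xset F (hQ.1.trans hT.1))
  have := mem_normalizer_inf hg.2 (stronglyClosed_le_normalizer hT hg.1)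
  rwa [xset_inf_eq hT hQ] at this

variable (hS : IsPGroup p S) (hF : F.IsSaturated p) (hT : F.StronglyClosed T)
  (hQ : TCentric F T Q) (hn : F.IsFullyNormalized Q)
include hS hF hT hQ hn

theorem xset_fullyNormalized : F.IsFullyNormalized (xset S Q) := by
  refine ⟨xset_le hn.1, fun Y hY => ?_⟩
  obtain ⟨φ, hφ, rfl⟩ := hY
  set Q' := φ.range ⊓ T with hQ'
  have hmap : (Q.subgroupOf (xset S Q)).map φ = Q' := by
    ext y
    constructor
    · rintro ⟨w, hw, rfl⟩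
      exact ⟨⟨w, rfl⟩, stronglyClosed_apply hT hφ w (hQ.1 hw)⟩
    · rintro ⟨⟨w, rfl⟩, hwT⟩
      obtain ⟨θ, hθ, -, hθx, -⟩ := exists_inverse hφ rfl
      have h := stronglyClosed_apply hT hθ ⟨φ w, ⟨w, rfl⟩⟩ hwT
      rw [hθx w ⟨w, rfl⟩] at h
      exact ⟨w, Subgroup.mem_subgroupOf.mpr ((xset_inf_eq hT hQ).le ⟨w.2, h⟩), rfl⟩
  have hconj : F.IsConj Q Q' := ⟨_, restrict_mem hφ (le_xset S Q),
    (range_comp_inclusion φ (le_xset S Q)).trans hmap⟩
  haveI := finite_of_le (normalizerIn_le S Q')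
  calc Nat.card (normalizerIn S φ.range) ≤ Nat.card (normalizerIn S Q') :=
        Subgroup.card_le_of_le fun g hg =>
          ⟨hg.1, mem_normalizer_inf hg.2 (stronglyClosed_le_normalizer hT hg.1)⟩
    _ ≤ Nat.card (normalizerIn S Q) := hn.2 Q' hconj
    _ = Nat.card (normalizerIn S (xset S Q)) := by rw [normalizerIn_xset hT hQ]

theorem xset_centric : F.IsCentric (xset S Q) :=
  CfsgLib.FusionSub.isCentric_sup_centralizerIn
    (centralized_automized_of_fullyNormalized hS hF hn).1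

variable {E : FusionSystem T'} (hE : E.IsInvariantIn F) (hTT : T ≤ T')
include hE hTT

theorem inf_xset_centric : E.IsCentric (xset S Q ⊓ T') := by
  have hT' := hE.2.1
  haveI := finite_of_le hT'.1
  have hQle : Q ≤ xset S Q ⊓ T' := le_inf (le_xset S Q) (hQ.1.trans hTT)
  refine ⟨inf_le_right, ?_⟩
  rintro R ⟨φ, hφ, rfl⟩
  have hφF := hE.1 _ hφ
  set φQ : Q →* Ω := φ.comp (Subgroup.inclusion hQle) with hφQdef
  have hφQ : φQ ∈ F.Hom Q := restrict_mem hφF hQle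
  -- `C_{T'}(Q)` goes onto `C_{T'}(φ Q)`
  have hC : centralizerIn T' Q ≤ xset S Q ⊓ T' := fun c hc =>
    ⟨centralizerIn_le_xset S Q ⟨hT'.1 hc.1, hc.2⟩, hc.1⟩
  have hle : ((centralizerIn T' Q).subgroupOf (xset S Q ⊓ T')).map φ ≤
      centralizerIn T' φQ.range := by
    rintro _ ⟨w, hw, rfl⟩
    exact ⟨apply_mem hφ w,
      (apply_mem_centralizerIn hφF hQle (range_comp_inclusion φ hQle).symm w hw.2).2⟩
  have hcard : Nat.card (centralizerIn T' φQ.range) ≤ Nat.card (centralizerIn T' Q) := by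
    obtain ⟨θ, hθ, hθr, -, -⟩ := exists_inverse hφQ rfl
    obtain ⟨ψ, hψ, hψx⟩ := (receptive_of_fullyNormalized hS hF hn).2 _ θ hθ hθr
    have hmap := (map_subgroupOf_of_extends (le_extender hθ) hψx).trans hθr
    have hCext : centralizerIn T' φQ.range ≤ extender S φQ.range θ :=
      fun c hc => centralizerIn_le_extender _ θ ⟨hT'.1 hc.1, hc.2⟩
    haveI := finite_of_le (centralizerIn_le T' Q)
    refine card_le_of_maps_to (S := T') (F.injective_of_mem hψ) hCext (centralizerIn_le T' Q)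
      fun x hx => ⟨stronglyClosed_apply hT' hψ x hx.1,
        (apply_mem_centralizerIn hψ (le_extender hθ) hmap x hx.2).2⟩
  haveI := finite_of_le (centralizerIn_le T' φQ.range)
  have heq := Subgroup.eq_of_le_of_card_ge hle (by
    rw [Subgroup.card_map_of_injective (F.injective_of_mem hφF),
      Nat.card_congr (Subgroup.subgroupOfEquivOfLe hC).toEquiv]
    exact hcard)
  have hr : φQ.range ≤ φ.range := by
    rintro _ ⟨x, rfl⟩
    exact ⟨_, rfl⟩
  refine (inf_le_inf_left _ (Subgroup.centralizer_le hr)).trans (heq.ge.trans ?_)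
  exact Subgroup.map_le_range φ _

theorem inf_xset_fullyNormalized : E.IsFullyNormalized (xset S Q ⊓ T') := by
  have hT' := hE.2.1
  haveI := finite_of_le hT'.1
  have hQle : Q ≤ xset S Q ⊓ T' := le_inf (le_xset S Q) (hQ.1.trans hTT)
  refine ⟨inf_le_right, ?_⟩
  rintro R ⟨φ, hφ, rfl⟩
  have hφF := hE.1 _ hφ
  set Q' := φ.range ⊓ T with hQ'
  have hmap : (Q.subgroupOf (xset S Q ⊓ T')).map φ = Q' := by
    ext y
    constructor
    · rintro ⟨w, hw, rfl⟩
      exact ⟨⟨w, rfl⟩, stronglyClosed_apply hT hφF w (hQ.1 hw)⟩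
    · rintro ⟨⟨w, rfl⟩, hwT⟩
      obtain ⟨θ, hθ, -, hθx, -⟩ := exists_inverse hφF rfl
      have h := stronglyClosed_apply hT hθ ⟨φ w, ⟨w, rfl⟩⟩ hwT
      rw [hθx w ⟨w, rfl⟩] at h
      exact ⟨w, Subgroup.mem_subgroupOf.mpr ((xset_inf_eq hT hQ).le ⟨w.2.1, h⟩), rfl⟩
  have hconj : F.IsConj Q' Q := CfsgLib.Alperin.IsConj.symm ⟨_, restrict_mem hφF hQle,
    (range_comp_inclusion φ hQle).trans hmap⟩
  obtain ⟨η, hη, hηN, hηm⟩ := exists_hom_normalizerIn_of_fullyNormalized hS hF hn hconj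
  have hsub : normalizerIn T' φ.range ≤ normalizerIn S Q' := fun g hg =>
    ⟨hT'.1 hg.1, mem_normalizer_inf hg.2 (stronglyClosed_le_normalizer hT (hT'.1 hg.1))⟩
  haveI := finite_of_le (normalizerIn_le T' (xset S Q ⊓ T'))
  refine card_le_of_maps_to (S := T') (F.injective_of_mem hη) hsub (normalizerIn_le T' _)
    fun x hx => ⟨stronglyClosed_apply hT' hη x hx.1, ?_⟩
  exact mem_normalizer_inf ((normalizerIn_le_xset F hn.1 (hηN x)).2)
    (stronglyClosed_le_normalizer hT' (apply_mem hη x))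

end Centric

variable [Finite S] {p : ℕ} [Fact p.Prime] {F : FusionSystem S} {E₁ : FusionSystem T₁}
  {E₂ : FusionSystem T₂}

namespace MeetData

theorem inv₁ (h : MeetData F E₁ E₂ p) : E₁.IsInvariantIn F := h.normal₁.1.2.2

theorem inv₂ (h : MeetData F E₁ E₂ p) : E₂.IsInvariantIn F := h.normal₂.1.2.2

theorem closed (h : MeetData F E₁ E₂ p) : F.StronglyClosed (T₁ ⊓ T₂) :=
  CfsgLib.FusionSub.stronglyClosed_inf h.inv₁.2.1 h.inv₂.2.1

theorem symm (h : MeetData F E₁ E₂ p) : MeetData F E₂ E₁ p :=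
  ⟨h.pgroup, h.saturated, h.normal₂, h.normal₁⟩

end MeetData

variable (h : MeetData F E₁ E₂ p)

/-- The meet of the two subsystems. -/
def meetSystem : FusionSystem (T₁ ⊓ T₂) :=
  genSystem F h.closed fun Q => {β | TCentric F (T₁ ⊓ T₂) Q ∧ β ∈ aGroup F E₁ E₂ p Q}

theorem meetSystem_isSubsystemOf : (meetSystem h).IsSubsystemOf F :=
  genSystem_isSubsystemOf _ _

theorem aGroup_le_meetSystem {Q : Subgroup Ω} (hQ : TCentric F (T₁ ⊓ T₂) Q) :
    aGroup F E₁ E₂ p Q ≤ (meetSystem h).autGroup Q := fun _ hβ =>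
  (mem_autGroup_iff _ hQ.1).mpr
    (gen_mem_genSystem h.closed ⟨hQ, hβ⟩ hQ.1 (aGroup_le_autGroup h.inv₁.2.1.1 hβ))

theorem meetSystem_le {Y : FusionSystem (T₁ ⊓ T₂)}
    (hY : ∀ Q : Subgroup Ω, TCentric F (T₁ ⊓ T₂) Q →
      aGroup F E₁ E₂ p Q ≤ Y.autGroup Q) {P : Subgroup Ω} {φ : P →* Ω}
    (hφ : φ ∈ (meetSystem h).Hom P) : φ ∈ Y.Hom P :=
  genSystem_le h.closed _ (fun Q _ hβ => (mem_autGroup_iff Y hβ.1.1).mp (hY Q hβ.1 hβ.2)) hφ

/-- The maps of `E` between subgroups of a strongly closed subgroup. -/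
def underSystem (E : FusionSystem T') (hT : F.StronglyClosed T) (hE : E.IsSubsystemOf F)
    (hTT : T ≤ T') : FusionSystem T where
  Hom P := {φ | φ ∈ E.Hom P ∧ P ≤ T}
  le_of_mem h := ⟨h.2, fun x => hT.2 _ h.2 _ (hE _ h.1) x⟩
  injective_of_mem h := E.injective_of_mem h.1
  conj_mem hP hg := ⟨E.conj_mem (hP.trans hTT) (hTT hg), hP⟩
  comp_mem h₁ h₂ h := ⟨E.comp_mem h₁.1 h₂.1 h, h₁.2⟩
  inv_mem := by
    intro P φ h
    obtain ⟨ψ, hψ, hψx⟩ := E.inv_mem h.1
    refine ⟨ψ, ⟨hψ, ?_⟩, hψx⟩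
    rintro _ ⟨x, rfl⟩
    exact hT.2 _ h.2 _ (hE _ h.1) x

theorem meetSystem_le_left {P : Subgroup Ω} {φ : P →* Ω} (hφ : φ ∈ (meetSystem h).Hom P) :
    φ ∈ E₁.Hom P := by
  refine (meetSystem_le h (Y := underSystem E₁ h.closed h.inv₁.1 inf_le_left) ?_ hφ).1
  intro Q hQ β hβ
  refine (mem_autGroup_iff _ hQ.1).mpr ⟨(mem_autGroup_iff E₁ (hQ.1.trans inf_le_left)).mp
    (aGroup_le_sub h.inv₁ (hQ.1.trans inf_le_left) inf_le_left ?_ hβ), hQ.1⟩
  rintro Q' γ ⟨ψ, -, hψγ, -, h₁, -⟩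
  exact ⟨ψ, hψγ, h₁⟩

theorem meetSystem_le_right {P : Subgroup Ω} {φ : P →* Ω} (hφ : φ ∈ (meetSystem h).Hom P) :
    φ ∈ E₂.Hom P := by
  refine (meetSystem_le h (Y := underSystem E₂ h.closed h.inv₂.1 inf_le_right) ?_ hφ).1
  intro Q hQ β hβ
  refine (mem_autGroup_iff _ hQ.1).mpr ⟨(mem_autGroup_iff E₂ (hQ.1.trans inf_le_right)).mp
    (aGroup_le_sub h.inv₂ (hQ.1.trans inf_le_right) inf_le_right ?_ hβ), hQ.1⟩
  rintro Q' γ ⟨ψ, -, hψγ, -, -, h₂⟩
  exact ⟨ψ, hψγ, h₂⟩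

theorem meetSystem_invCond : InvCond (meetSystem h) F := by
  suffices hle : ∀ {P : Subgroup Ω} {φ : P →* Ω}, φ ∈ (meetSystem h).Hom P →
      φ ∈ (invariantCore (meetSystem h) F).Hom P by
    intro P hPT φ hφ α hα
    obtain ⟨χ, hχ, hχx⟩ := invCond_invariantCore _ F P hPT φ (hle hφ) α hα
    exact ⟨χ, invariantCore_le _ F _ hχ, hχx⟩
  intro P φ hφ
  refine meetSystem_le h (Y := invariantCore (meetSystem h) F) ?_ hφ
  intro Q hQ β hβ
  refine (mem_autGroup_iff _ hQ.1).mpr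
    ⟨(mem_autGroup_iff _ hQ.1).mp (aGroup_le_meetSystem h hQ hβ), fun a ha => ?_⟩
  have hTS := h.closed.1
  set Q' := autImage a Q with hQ'
  obtain ⟨u, hu, hau⟩ := exists_restrict ((inHom_aut hTS).mpr ha) hQ.1 (rfl : _ = Q')
  have hQ'c : TCentric F (T₁ ⊓ T₂) Q' := hQ.of_isConj h.closed hu.isConj
  refine ⟨_, (mem_autGroup_iff _ hQ'c.1).mp (aGroup_le_meetSystem h hQ'c (congr_mem_aGroup hu hβ)),
    fun x hxT hφx => ?_⟩
  show ((MulAut.congr u β ⟨_, _⟩ : Q') : Ω) = _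
  have e1 : (⟨(a ⟨x, hxT⟩ : ↥(T₁ ⊓ T₂)), mem_autImage hxT x.2⟩ : Q') = u x :=
    Subtype.ext (hau x hxT x.2)
  rw [e1, congr_apply_coe]
  exact (hau _ hφx (β x).2).symm

end CfsgLib.FusionBasics.Meet
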