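import Cfsg.Agent.Lib.FusionBasics.Meet.Upward
import Cfsg.Agent.Lib.Alperin.PPowerIndex

/-!
The Frattini condition for the meet and the classes of maps in `Aut_F(T)/Aut_D(T)`.
-/

set_option autoImplicit false
set_option linter.style.haveILetI false
set_option linter.unusedSectionVars false

namespace CfsgLib.FusionBasics.Meet

open Cfsg Cfsg.FusionSystem CfsgLib.Alperin CfsgLib.FusionBasics CfsgLib.FusionSub

universe u

variable {Ω : Type u} [Group Ω] {S T T₁ T₂ : Subgroup Ω} [Finite S] {p : ℕ} [Fact p.Prime]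
  {F : FusionSystem S} {E₁ : FusionSystem T₁} {E₂ : FusionSystem T₂}

/-- A fully centralized subgroup of `T` containing its centralizer in `T` is `T`-centric. -/
theorem tCentric_of_fullyCentralized (hS : IsPGroup p S) (hF : F.IsSaturated p)
    (hT : F.StronglyClosed T) {Q : Subgroup Ω} (hQT : Q ≤ T) (hQ : F.IsFullyCentralized Q)
    (hC : centralizerIn T Q ≤ Q) : TCentric F T Q := by
  refine ⟨hQT, fun Q' hQ' c hc => ?_⟩
  obtain ⟨φ, hφ, hr⟩ := CfsgLib.Alperin.IsConj.symm hQ'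
  obtain ⟨ψ, hψ, hext⟩ := (receptive_of_fullyCentralized hS hF hQ).2 Q' φ hφ hr
  have hmap : (Q'.subgroupOf (extender S Q' φ)).map ψ = Q :=
    (map_subgroupOf_of_extends (le_extender hφ) hext).trans hr
  have hcS : c ∈ centralizerIn S Q' := ⟨hT.1 hc.1, hc.2⟩
  have hcN := centralizerIn_le_extender Q' φ hcS
  obtain ⟨w, hw, hwe⟩ := hmap.ge (hC ⟨stronglyClosed_apply hT hψ ⟨c, hcN⟩ hc.1,
    (apply_mem_centralizerIn hψ (le_extender hφ) hmap ⟨c, hcN⟩ hc.2).2⟩)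
  have := F.injective_of_mem hψ hwe
  rw [this] at hw
  exact hw

variable (h : MeetData F E₁ E₂ p)
include h

/-- Every map of `F` between subgroups of `T` is a map of the meet followed by an automorphism of
`T`. -/
theorem meet_decomp : ∀ (P : Subgroup Ω), P ≤ T₁ ⊓ T₂ → ∀ φ : P →* Ω, φ ∈ F.Hom P →
    Decomp (meetSystem h) F P φ := by
  have hT := h.closed
  haveI := finite_of_le hT.1
  have hTp := isPGroup_of_le h.pgroup hT.1
  refine frattini_of_aut h.pgroup h.saturated (meetSystem_invCond h) hT fun Q hQT hQn big α hα => ?_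
  rcases hQT.eq_or_lt with heq | hlt
  · subst heq
    exact ⟨α, hα, (T₁ ⊓ T₂).subtype, incl_mem _ le_rfl, fun _ _ => rfl⟩
  by_cases hC : centralizerIn (T₁ ⊓ T₂) Q ≤ Q
  · have hQc := tCentric_of_fullyCentralized h.pgroup h.saturated hT hQT
      (centralized_automized_of_fullyNormalized h.pgroup h.saturated hQn).1 hC
    obtain ⟨κ, hκ, χ, -, hαχ, R, hQR, ψ, hRN, hψ, hψx, hbigR⟩ :=
      frattini_extend h.pgroup h.saturated hQn (aGroup F E₁ E₂ p Q)
        (fun a ha b hb => conj_mem_aGroup hQn.1 ha hb) hα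
    have hN : normalizerIn (T₁ ⊓ T₂) Q ≤ R := fun g hg => hbigR g (hT.1 hg.1) hg.2
      (autInducedBy_le_aGroup hQn.1 (conjAut_mem hg.1 hg.2))
    have h1 := big _ (normalizerIn_le _ Q)
      (card_lt_card (S := T₁ ⊓ T₂) (normalizerIn_le _ Q) (CfsgLib.FusionSub.lt_normalizerIn hTp hlt)) _
      (restrict_mem hψ hN)
    have hχ : Q.subtype.comp χ.toMonoidHom ∈
        (frattiniSystem (meetSystem h) F (meetSystem_invCond h)).Hom Q :=
      restrict_mem_apply h1 (le_normalizerIn hQT) fun x => (hψx x).symm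
    have hκ' := mem_frattiniSystem_of_mem (meetSystem_invCond h)
      ((mem_autGroup_iff _ hQT).mp (aGroup_le_meetSystem h hQc hκ.1))
    exact comp_mem_apply hχ hκ' (fun x => (χ x).2) fun x => by rw [hαχ]; rfl
  · have hα' := (mem_autGroup_iff F hQn.1).mp hα
    obtain ⟨ψ, hψ, hext⟩ := (receptive_of_fullyNormalized h.pgroup h.saturated hQn).2 Q _ hα'
      (range_subtype_comp_aut _)
    set W := Q ⊔ centralizerIn (T₁ ⊓ T₂) Q
    have hle : W ≤ extender S Q (Q.subtype.comp α.toMonoidHom) :=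
      sup_le (le_extender hα') fun c hc => centralizerIn_le_extender _ _ ⟨hT.1 hc.1, hc.2⟩
    have hW : W ≤ T₁ ⊓ T₂ := sup_le hQT (centralizerIn_le _ Q)
    have h1 := big W hW (card_lt_card (S := T₁ ⊓ T₂) hW
      (lt_of_le_of_ne le_sup_left fun e => hC (le_sup_right.trans e.ge))) _ (restrict_mem hψ hle)
    exact restrict_mem_apply h1 le_sup_left fun x => (hext x x.2 _).symm

/-- `Aut_D(T)` inside `Aut_F(T)`. -/
def deltaKer (_h : MeetData F E₁ E₂ p) : Subgroup (F.autGroup (T₁ ⊓ T₂)) :=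
  (aGroup F E₁ E₂ p (T₁ ⊓ T₂)).subgroupOf _

instance deltaKer_normal : (deltaKer h).Normal :=
  ⟨fun _ hn a => Subgroup.mem_subgroupOf.mpr
    (conj_mem_aGroup h.closed.1 a.2 (Subgroup.mem_subgroupOf.mp hn))⟩

/-- The classes of automorphisms of `T`. -/
abbrev Delta := F.autGroup (T₁ ⊓ T₂) ⧸ deltaKer h

/-- The class of a map between subgroups of `T`. -/
abbrev Cl (W : Subgroup Ω) (φ : W →* Ω) (c : Delta h) : Prop :=
  ClT (meetSystem h) (QuotientGroup.mk' (deltaKer h)) W φ c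

theorem Cl.mem_of_one {W : Subgroup Ω} {φ : W →* Ω} (hφ : Cl h W φ 1) :
    φ ∈ (meetSystem h).Hom W := by
  obtain ⟨α, hα, ε, hε, hx⟩ := hφ
  have hα' : (α : MulAut ↥(T₁ ⊓ T₂)) ∈ (meetSystem h).autGroup (T₁ ⊓ T₂) :=
    aGroup_le_meetSystem h (tCentric_top h.closed)
      (Subgroup.mem_subgroupOf.mp (show α ∈ deltaKer h from (QuotientGroup.eq_one_iff (N := deltaKer h) α).mp hα))
  exact comp_mem_apply hε ((mem_autGroup_iff _ le_rfl).mp hα') (apply_mem hε) fun x => hx x _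

theorem exists_cl {W : Subgroup Ω} (hW : W ≤ T₁ ⊓ T₂) {φ : W →* Ω} (hφ : φ ∈ F.Hom W) :
    ∃ c, Cl h W φ c := by
  obtain ⟨a, ha, ε, hε, hx⟩ := meet_decomp h W hW φ hφ
  exact ⟨_, ⟨a, ha⟩, rfl, ε, hε, hx⟩

theorem Cl.aut_mul {W : Subgroup Ω} {a b : MulAut W} {c d : Delta h}
    (ha : Cl h W (W.subtype.comp a.toMonoidHom) c) (hb : Cl h W (W.subtype.comp b.toMonoidHom) d) :
    Cl h W (W.subtype.comp (a * b).toMonoidHom) (c * d) :=
  hb.comp (meetSystem_invCond h) ha (fun x => (b x).2) fun _ => rfl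

theorem Cl.aut_inv {W : Subgroup Ω} {a : MulAut W} {c : Delta h}
    (ha : Cl h W (W.subtype.comp a.toMonoidHom) c) :
    Cl h W (W.subtype.comp a⁻¹.toMonoidHom) c⁻¹ :=
  ha.inv (meetSystem_invCond h) (range_subtype_comp_aut a) fun x _ =>
    congrArg Subtype.val (a.symm_apply_apply x)

theorem Cl.incl {W : Subgroup Ω} (hW : W ≤ T₁ ⊓ T₂) : Cl h W W.subtype 1 :=
  ClT.of_mem (incl_mem _ hW)

theorem Cl.aut_one {W : Subgroup Ω} (hW : W ≤ T₁ ⊓ T₂) :
    Cl h W (W.subtype.comp (1 : MulAut W).toMonoidHom) 1 :=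
  (Cl.incl h hW).congr fun _ => rfl

/-- Members of `Aut_D(W)` have trivial class. -/
theorem Cl.of_aGroup {W : Subgroup Ω} (hW : TCentric F (T₁ ⊓ T₂) W) {a : MulAut W}
    (ha : a ∈ aGroup F E₁ E₂ p W) : Cl h W (W.subtype.comp a.toMonoidHom) 1 :=
  ClT.of_mem ((mem_autGroup_iff _ hW.1).mp (aGroup_le_meetSystem h hW ha))

/-- The classes of the elements of `C_S(R)` acting on `T`. -/
def gammaZ (R : Subgroup Ω) : Subgroup (Delta h) :=
  ((autInducedBy (centralizerIn S R) (T₁ ⊓ T₂)).subgroupOf (F.autGroup (T₁ ⊓ T₂))).map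
    (QuotientGroup.mk' (deltaKer h))

theorem mem_normalizer_closed {g : Ω} (hg : g ∈ S) :
    g ∈ Subgroup.normalizer ((T₁ ⊓ T₂ : Subgroup Ω) : Set Ω) :=
  stronglyClosed_le_normalizer h.closed hg

/-- Conjugation by an element of `S` on `T`. -/
def conjT (g : Ω) (hg : g ∈ S) : F.autGroup (T₁ ⊓ T₂) :=
  ⟨conjAut _ g (mem_normalizer_closed h hg),
    autInducedBy_le_autGroup F h.closed.1 (conjAut_mem hg _)⟩

theorem conjT_mem_gammaZ {R : Subgroup Ω} {z : Ω} (hz : z ∈ centralizerIn S R) :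
    QuotientGroup.mk' (deltaKer h) (conjT h z hz.1) ∈ gammaZ h R :=
  ⟨_, Subgroup.mem_subgroupOf.mpr (conjAut_mem hz (mem_normalizer_closed h hz.1)), rfl⟩

theorem exists_of_mem_gammaZ {R : Subgroup Ω} {c : Delta h} (hc : c ∈ gammaZ h R) :
    ∃ z, ∃ hz : z ∈ centralizerIn S R, c = QuotientGroup.mk' (deltaKer h) (conjT h z hz.1) := by
  obtain ⟨α, hα, rfl⟩ := hc
  obtain ⟨z, hz, hzx⟩ := mem_autInducedBy_iff.mp (Subgroup.mem_subgroupOf.mp hα)
  exact ⟨z, hz, congrArg _ (Subtype.ext (MulEquiv.ext fun x => Subtype.ext (hzx x)))⟩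

/-- Conjugation by `g ∈ S` on `W ≤ T` has the class of `g`. -/
theorem Cl.conj {W : Subgroup Ω} (hW : W ≤ T₁ ⊓ T₂) {g : Ω} (hg : g ∈ S) {φ : W →* Ω}
    (hφ : ∀ x : W, φ x = g * x * g⁻¹) :
    Cl h W φ (QuotientGroup.mk' (deltaKer h) (conjT h g hg)) :=
  ClT.of_aut _ hW fun x => hφ x

theorem mk_conjT_of_mem {t : Ω} (ht : t ∈ T₁ ⊓ T₂) :
    QuotientGroup.mk' (deltaKer h) (conjT h t (h.closed.1 ht)) = 1 :=
  (QuotientGroup.eq_one_iff (N := deltaKer h) _).mpr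
    (show conjT h t (h.closed.1 ht) ∈ deltaKer h from Subgroup.mem_subgroupOf.mpr
      (autInducedBy_le_aGroup h.closed.1 (conjAut_mem ht _)))

theorem conjT_mul {a b : Ω} (ha : a ∈ S) (hb : b ∈ S) :
    conjT h (a * b) (S.mul_mem ha hb) = conjT h a ha * conjT h b hb :=
  Subtype.ext (MulEquiv.ext fun x => Subtype.ext (by
    show a * b * (x : Ω) * (a * b)⁻¹ = a * (b * x * b⁻¹) * a⁻¹
    group))

/-- The classes of the automorphisms of `W` fixing `R`. -/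
def fixClasses {W : Subgroup Ω} (hW : W ≤ T₁ ⊓ T₂) (R : Subgroup Ω) : Subgroup (Delta h) where
  carrier := {c | ∃ e ∈ F.autGroup W, Agree e (1 : MulAut R) ∧
    Cl h W (W.subtype.comp (e : MulAut W).toMonoidHom) c}
  one_mem' := ⟨1, one_mem _, agree_one, Cl.aut_one h hW⟩
  mul_mem' := by
    rintro c d ⟨a, ha, haR, hac⟩ ⟨b, hb, hbR, hbd⟩
    exact ⟨a * b, mul_mem ha hb, mul_one (1 : MulAut R) ▸ haR.mul hbR, Cl.aut_mul h hac hbd⟩
  inv_mem' := by
    rintro c ⟨a, ha, haR, hac⟩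
    refine ⟨a⁻¹, Subgroup.inv_mem _ ha, fun x hW hR => ?_, Cl.aut_inv h hac⟩
    have e : a ⟨x, hW⟩ = ⟨x, hW⟩ := Subtype.ext (haR x hW hR)
    show ((a.symm ⟨x, hW⟩ : W) : Ω) = x
    conv_lhs => rw [← e, MulEquiv.symm_apply_apply]

/-- `Γ₀(R)`. -/
def gamma0 (R : Subgroup Ω) : Subgroup (Delta h) :=
  fixClasses h (normalizerIn_le (T₁ ⊓ T₂) R) R

theorem mem_gamma0 {R : Subgroup Ω} {c : Delta h} :
    c ∈ gamma0 h R ↔ ∃ e ∈ F.autGroup (normalizerIn (T₁ ⊓ T₂) R), Agree e (1 : MulAut R) ∧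
      Cl h (normalizerIn (T₁ ⊓ T₂) R)
        ((normalizerIn (T₁ ⊓ T₂) R).subtype.comp (e : MulAut _).toMonoidHom) c := Iff.rfl

theorem cls_top_le_gamma0 {R : Subgroup Ω} {c : Delta h}
    (hc : Cl h (normalizerIn (T₁ ⊓ T₂) R) (normalizerIn (T₁ ⊓ T₂) R).subtype c) :
    c ∈ gamma0 h R :=
  (mem_gamma0 h).mpr ⟨1, one_mem _, agree_one, hc.congr fun _ => rfl⟩

theorem conj_normalizerIn {R : Subgroup Ω} {g x : Ω} (hg : g ∈ normalizerIn S R)
    (hx : x ∈ normalizerIn (T₁ ⊓ T₂) R) : g * x * g⁻¹ ∈ normalizerIn (T₁ ⊓ T₂) R :=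
  ⟨stronglyClosed_conj h.closed hg.1 hx.1,
    Subgroup.mul_mem _ (Subgroup.mul_mem _ hg.2 hx.2) (Subgroup.inv_mem _ hg.2)⟩

theorem gammaZ_le_gamma0 {R : Subgroup Ω} : gammaZ h R ≤ gamma0 h R := by
  intro c hc
  obtain ⟨z, hz, rfl⟩ := exists_of_mem_gammaZ h hc
  set U := normalizerIn (T₁ ⊓ T₂) R
  have hzN := centralizerIn_le_normalizerIn S R hz
  have hzU : z ∈ Subgroup.normalizer (U : Set Ω) := by
    refine Subgroup.mem_normalizer_iff.mpr fun x => ⟨conj_normalizerIn h hzN, fun hx => ?_⟩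
    have := conj_normalizerIn h ((normalizerIn S R).inv_mem hzN) hx
    simpa [mul_assoc] using this
  refine (mem_gamma0 h).mpr ⟨conjAut U z hzU, autInducedBy_le_autGroup F
    ((normalizerIn_le _ R).trans h.closed.1) (conjAut_mem hz.1 _), fun x hU hR => ?_,
    Cl.conj h (normalizerIn_le _ R) hz.1 fun x => rfl⟩
  show z * x * z⁻¹ = x
  rw [← hz.2 x hR, mul_inv_cancel_right]

end CfsgLib.FusionBasics.Meet
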