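import Cfsg.Agent.Lib.FusionBasics.Meet.Agree
import Cfsg.Agent.Lib.Alperin.InvariantCore
import Cfsg.Agent.Lib.FusionBasics.Criterion.Ext

/-!
The automorphisms generating the meet of two normal subsystems.
-/

set_option autoImplicit false
set_option linter.style.haveILetI false

namespace CfsgLib.FusionBasics.Meet

open Cfsg Cfsg.FusionSystem CfsgLib.Alperin CfsgLib.FusionBasics CfsgLib.FusionSub

variable {Ω : Type*} [Group Ω] {S T T₁ T₂ : Subgroup Ω}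

/-- `Q C_S(Q)`. -/
def xset (S Q : Subgroup Ω) : Subgroup Ω := Q ⊔ centralizerIn S Q

theorem le_xset (S Q : Subgroup Ω) : Q ≤ xset S Q := le_sup_left

theorem centralizerIn_le_xset (S Q : Subgroup Ω) : centralizerIn S Q ≤ xset S Q := le_sup_right

theorem xset_le {Q : Subgroup Ω} (hQ : Q ≤ S) : xset S Q ≤ S := sup_le hQ (centralizerIn_le S Q)

/-- An isomorphism between fully centralized subgroups extends to their `Q C_S(Q)`. -/
theorem exists_xset_iso [Finite S] {p : ℕ} [Fact p.Prime] (hS : IsPGroup p S) {F : FusionSystem S}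
    (hF : F.IsSaturated p) {Q Q' : Subgroup Ω} (hQ : F.IsFullyCentralized Q)
    (hQ' : F.IsFullyCentralized Q') {e : Q ≃* Q'} (he : InHom F e) :
    ∃ f : xset S Q ≃* xset S Q', InHom F f ∧ Agree f e := by
  obtain ⟨ψ, hψ, hψx⟩ := (receptive_of_fullyCentralized hS hF hQ').2 Q _ he (equiv_range e)
  have hle : xset S Q ≤ extender S Q (Q'.subtype.comp e.toMonoidHom) :=
    sup_centralizerIn_le_extender he
  set χ : xset S Q →* Ω := ψ.comp (Subgroup.inclusion hle) with hχdef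
  have hχ : χ ∈ F.Hom (xset S Q) := restrict_mem hψ hle
  have hmapQ : (Q.subgroupOf (xset S Q)).map χ = Q' :=
    map_eq_of_apply (le_xset S Q) fun x => hψx x x.2 _
  have hmapC : ((centralizerIn S Q).subgroupOf (xset S Q)).map χ ≤ centralizerIn S Q' := by
    rintro _ ⟨w, hw, rfl⟩
    exact apply_mem_centralizerIn hχ (le_xset S Q) hmapQ w hw.2
  haveI := finite_of_le (centralizerIn_le S Q')
  have hC := Subgroup.eq_of_le_of_card_ge hmapC (by
    rw [Subgroup.card_map_of_injective (F.injective_of_mem hχ),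
      Nat.card_congr (Subgroup.subgroupOfEquivOfLe (centralizerIn_le_xset S Q)).toEquiv]
    exact hQ.2 Q' he.isConj)
  have hr : χ.range = xset S Q' := by
    rw [MonoidHom.range_eq_map,
      show (⊤ : Subgroup (xset S Q)) =
        Q.subgroupOf (xset S Q) ⊔ (centralizerIn S Q).subgroupOf (xset S Q) by
        rw [← Subgroup.subgroupOf_sup (le_xset S Q) (centralizerIn_le_xset S Q)]
        exact (Subgroup.subgroupOf_self _).symm,
      Subgroup.map_sup, hmapQ, hC]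
    rfl
  exact ⟨isoOfHom χ (F.injective_of_mem hχ) hr, mem_of_apply_eq hχ fun _ => rfl,
    fun x hR hA => hψx x hA _⟩

/-- `ψ` induces on `X ⊓ T` an automorphism of the subsystem `E`. -/
def RestrictsIn (E : FusionSystem T) {X : Subgroup Ω} (ψ : MulAut X) : Prop :=
  ∃ a ∈ E.autGroup (X ⊓ T), Agree ψ a

theorem RestrictsIn.one (E : FusionSystem T) {X : Subgroup Ω} : RestrictsIn E (1 : MulAut X) :=
  ⟨1, one_mem _, agree_one⟩

theorem RestrictsIn.mul {E : FusionSystem T} {X : Subgroup Ω} {f g : MulAut X}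
    (hf : RestrictsIn E f) (hg : RestrictsIn E g) : RestrictsIn E (f * g) := by
  obtain ⟨a, ha, hfa⟩ := hf
  obtain ⟨b, hb, hgb⟩ := hg
  exact ⟨a * b, mul_mem ha hb, hfa.mul hgb⟩

theorem RestrictsIn.inv {E : FusionSystem T} {X : Subgroup Ω} {f : MulAut X}
    (hf : RestrictsIn E f) : RestrictsIn E f⁻¹ := by
  obtain ⟨a, ha, hfa⟩ := hf
  exact ⟨a⁻¹, inv_mem ha, hfa.inv inf_le_left⟩

theorem RestrictsIn.congr {E : FusionSystem T} {F : FusionSystem S} (hE : E.IsInvariantIn F)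
    {X X' : Subgroup Ω} {f : X ≃* X'} (hf : InHom F f) {ψ : MulAut X} (h : RestrictsIn E ψ) :
    RestrictsIn E (MulAut.congr f ψ) := by
  obtain ⟨a, ha, hψa⟩ := h
  obtain ⟨u, hu, hfu⟩ := exists_restrict hf inf_le_left (hf.map_inf hE.2.1)
  exact ⟨_, congr_mem_sub hE hu inf_le_right ha, hψa.congr hfu inf_le_left⟩

/-- `γ` extends to `Q C_S(Q)`, moving elements by elements of `T₁ ⊓ T₂` and inducing members of `E₁`
and `E₂`. -/
def IsGood (F : FusionSystem S) (E₁ : FusionSystem T₁) (E₂ : FusionSystem T₂) (Q : Subgroup Ω)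
    (γ : MulAut Q) : Prop :=
  ∃ ψ ∈ F.autGroup (xset S Q), Agree ψ γ ∧
    (∀ x : xset S Q, (x : Ω)⁻¹ * (ψ x : xset S Q) ∈ T₁ ⊓ T₂) ∧
      RestrictsIn E₁ ψ ∧ RestrictsIn E₂ ψ

/-- The generators of `Aut_D(Q)`. -/
def aGen (F : FusionSystem S) (E₁ : FusionSystem T₁) (E₂ : FusionSystem T₂) (p : ℕ)
    (Q : Subgroup Ω) : Set (MulAut Q) :=
  {β | ∃ (Q' : Subgroup Ω) (e : Q ≃* Q'), InHom F e ∧
    ((F.IsFullyNormalized Q' ∧ (orderOf β).Coprime p ∧ IsGood F E₁ E₂ Q' (MulAut.congr e β)) ∨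
      ∃ t ∈ T₁ ⊓ T₂, ∀ y : Q', ((MulAut.congr e β y : Q') : Ω) = t * y * t⁻¹)}

/-- `Aut_D(Q)`. -/
def aGroup (F : FusionSystem S) (E₁ : FusionSystem T₁) (E₂ : FusionSystem T₂) (p : ℕ)
    (Q : Subgroup Ω) : Subgroup (MulAut Q) :=
  Subgroup.closure (aGen F E₁ E₂ p Q)

section Basic

variable {F : FusionSystem S} {E₁ : FusionSystem T₁} {E₂ : FusionSystem T₂} {p : ℕ}

theorem congr_mem_aGroup {Q Q' : Subgroup Ω} {e : Q ≃* Q'} (he : InHom F e) {β : MulAut Q}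
    (hβ : β ∈ aGroup F E₁ E₂ p Q) : MulAut.congr e β ∈ aGroup F E₁ E₂ p Q' := by
  suffices h : aGroup F E₁ E₂ p Q ≤ (aGroup F E₁ E₂ p Q').comap (MulAut.congr e).toMonoidHom from
    h hβ
  refine (Subgroup.closure_le _).mpr fun b hb => ?_
  obtain ⟨Q'', u, hu, h⟩ := hb
  refine Subgroup.subset_closure ⟨Q'', e.symm.trans u, he.symm.trans hu, ?_⟩
  have key : MulAut.congr (e.symm.trans u) (MulAut.congr e b) = MulAut.congr u b := by
    rw [congr_congr]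
    congr 1
    refine congrArg MulAut.congr (MulEquiv.ext fun x => ?_)
    show u (e.symm (e x)) = u x
    rw [MulEquiv.symm_apply_apply]
  show (F.IsFullyNormalized Q'' ∧ (orderOf (MulAut.congr e b)).Coprime p ∧
    IsGood F E₁ E₂ Q'' (MulAut.congr (e.symm.trans u) (MulAut.congr e b))) ∨ _
  rw [orderOf_congr, key]
  rcases h with h | ⟨t, ht, hty⟩
  · exact Or.inl h
  · refine Or.inr ⟨t, ht, fun y => ?_⟩
    exact key.symm ▸ hty y

theorem aGroup_le_autGroup {Q : Subgroup Ω} (hT : T₁ ≤ S) :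
    aGroup F E₁ E₂ p Q ≤ F.autGroup Q := by
  refine (Subgroup.closure_le _).mpr ?_
  rintro β ⟨Q', e, he, h⟩
  have hQ' : Q' ≤ S := CfsgLib.Alperin.IsConj.right_le he.isConj
  have h' : MulAut.congr e β ∈ F.autGroup Q' := by
    rcases h with ⟨-, -, ψ, hψ, hψa, -⟩ | ⟨t, ht, hty⟩
    · exact (inHom_aut hQ').mp
        (((inHom_aut (xset_le hQ')).mpr hψ).of_agree hψa (le_xset S Q'))
    · exact (mem_autGroup_iff F hQ').mpr (mem_of_conj hQ' (hT ht.1) hty)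
  have := CfsgLib.FusionBasics.congr_mem he.symm h'
  rwa [congr_congr, MulEquiv.self_trans_symm] at this

theorem conj_mem_aGroup {Q : Subgroup Ω} (hQ : Q ≤ S) {a b : MulAut Q} (ha : a ∈ F.autGroup Q)
    (hb : b ∈ aGroup F E₁ E₂ p Q) : a * b * a⁻¹ ∈ aGroup F E₁ E₂ p Q :=
  congr_mem_aGroup ((inHom_aut hQ).mpr ha) hb

theorem autInducedBy_le_aGroup {Q : Subgroup Ω} (hQ : Q ≤ S) :
    autInducedBy (T₁ ⊓ T₂) Q ≤ aGroup F E₁ E₂ p Q := by
  intro β hβ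
  obtain ⟨t, ht, hty⟩ := mem_autInducedBy_iff.mp hβ
  exact Subgroup.subset_closure ⟨Q, MulEquiv.refl Q, inHom_refl F hQ, Or.inr ⟨t, ht, hty⟩⟩

theorem aGroup_le_sub {T' : Subgroup Ω} {E : FusionSystem T'} (hE : E.IsInvariantIn F)
    {Q : Subgroup Ω} (hQ : Q ≤ T') (hT' : T₁ ⊓ T₂ ≤ T')
    (hgood : ∀ (Q' : Subgroup Ω) (γ : MulAut Q'), IsGood F E₁ E₂ Q' γ →
      ∃ ψ : MulAut (xset S Q'), Agree ψ γ ∧ RestrictsIn E ψ) :
    aGroup F E₁ E₂ p Q ≤ E.autGroup Q := by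
  refine (Subgroup.closure_le _).mpr ?_
  rintro β ⟨Q', e, he, h⟩
  have hQ' : Q' ≤ T' := fun y hy => by
    obtain ⟨x, hx⟩ := e.surjective ⟨y, hy⟩
    have := (he.mem_iff hE.2.1 x).mp (hQ x.2)
    rwa [hx] at this
  have h' : MulAut.congr e β ∈ E.autGroup Q' := by
    rcases h with ⟨-, -, hg⟩ | ⟨t, ht, hty⟩
    · obtain ⟨ψ, hψ, a, ha, hψa⟩ := hgood Q' _ hg
      have hle : Q' ≤ xset S Q' ⊓ T' := le_inf (le_xset S Q') hQ'
      refine (inHom_aut hQ').mp (((inHom_aut (F := E) inf_le_right).mpr ha).of_agree ?_ hle)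
      exact fun x hR hA => (hψa x hR.1 hR).symm.trans (hψ x hR.1 hA)
    · exact (mem_autGroup_iff E hQ').mpr (mem_of_conj hQ' (hT' ht) hty)
  have := congr_mem_sub hE he.symm hQ' h'
  rwa [congr_congr, MulEquiv.self_trans_symm] at this

variable [Finite S] [Fact p.Prime]

theorem IsGood.congr (hS : IsPGroup p S) (hF : F.IsSaturated p) (hE₁ : E₁.IsInvariantIn F)
    (hE₂ : E₂.IsInvariantIn F) {Q Q' : Subgroup Ω} (hQ : F.IsFullyCentralized Q)
    (hQ' : F.IsFullyCentralized Q') {e : Q ≃* Q'} (he : InHom F e) {γ : MulAut Q}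
    (h : IsGood F E₁ E₂ Q γ) : IsGood F E₁ E₂ Q' (MulAut.congr e γ) := by
  obtain ⟨ψ, hψ, hψγ, hdisp, h₁, h₂⟩ := h
  obtain ⟨f, hf, hfe⟩ := exists_xset_iso hS hF hQ hQ' he
  refine ⟨_, CfsgLib.FusionBasics.congr_mem hf hψ, hψγ.congr hfe (le_xset S Q), fun y => ?_,
    h₁.congr hE₁ hf, h₂.congr hE₂ hf⟩
  obtain ⟨x, rfl⟩ := f.surjective y
  rw [congr_apply_coe, ← Subgroup.coe_inv, ← Subgroup.coe_mul, ← map_inv, ← map_mul]
  exact (hf.mem_iff (stronglyClosed_inf hE₁.2.1 hE₂.2.1) _).mp (hdisp x)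

end Basic

/-- The least fusion system over `T` inside `F` containing the given automorphisms. -/
def genSystem (F : FusionSystem S) (hT : F.StronglyClosed T)
    (gen : ∀ Q : Subgroup Ω, Set (MulAut Q)) : FusionSystem T where
  Hom P := {φ | φ ∈ F.Hom P ∧ P ≤ T ∧ ∀ Y : FusionSystem T,
    (∀ Q : Subgroup Ω, ∀ β ∈ gen Q, Q.subtype.comp β.toMonoidHom ∈ Y.Hom Q) → φ ∈ Y.Hom P}
  le_of_mem h := ⟨h.2.1, fun x => hT.2 _ h.2.1 _ h.1 x⟩
  injective_of_mem h := F.injective_of_mem h.1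
  conj_mem hP hg := ⟨F.conj_mem (hP.trans hT.1) (hT.1 hg), hP, fun Y _ => Y.conj_mem hP hg⟩
  comp_mem h₁ h₂ h := ⟨F.comp_mem h₁.1 h₂.1 h, h₁.2.1,
    fun Y hY => Y.comp_mem (h₁.2.2 Y hY) (h₂.2.2 Y hY) h⟩
  inv_mem := by
    intro P φ h
    obtain ⟨ψ, hψ, hψx⟩ := F.inv_mem h.1
    refine ⟨ψ, ⟨hψ, ?_, fun Y hY => ?_⟩, hψx⟩
    · rintro _ ⟨x, rfl⟩
      exact hT.2 _ h.2.1 _ h.1 x
    · obtain ⟨θ, hθ, hθx⟩ := Y.inv_mem (h.2.2 Y hY)
      refine mem_of_apply_eq hθ ?_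
      rintro ⟨_, x, rfl⟩
      exact (hψx x).trans (hθx x).symm

theorem genSystem_isSubsystemOf {F : FusionSystem S} (hT : F.StronglyClosed T)
    (gen : ∀ Q : Subgroup Ω, Set (MulAut Q)) : (genSystem F hT gen).IsSubsystemOf F :=
  fun _ _ h => h.1

theorem genSystem_le {F : FusionSystem S} (hT : F.StronglyClosed T)
    (gen : ∀ Q : Subgroup Ω, Set (MulAut Q)) {Y : FusionSystem T}
    (hY : ∀ Q : Subgroup Ω, ∀ β ∈ gen Q, Q.subtype.comp β.toMonoidHom ∈ Y.Hom Q)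
    {P : Subgroup Ω} {φ : P →* Ω} (h : φ ∈ (genSystem F hT gen).Hom P) : φ ∈ Y.Hom P :=
  h.2.2 Y hY

theorem gen_mem_genSystem {F : FusionSystem S} (hT : F.StronglyClosed T)
    {gen : ∀ Q : Subgroup Ω, Set (MulAut Q)} {Q : Subgroup Ω} {β : MulAut Q} (hβ : β ∈ gen Q)
    (hQ : Q ≤ T) (hF : β ∈ F.autGroup Q) :
    Q.subtype.comp β.toMonoidHom ∈ (genSystem F hT gen).Hom Q :=
  ⟨(mem_autGroup_iff F (hQ.trans hT.1)).mp hF, hQ, fun _ hY => hY Q β hβ⟩

end CfsgLib.FusionBasics.Meet
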