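import Cfsg.Agent.Lib.FusionBasics.Meet.Link

/-!
Classes of identity maps come from automorphisms of `N_T(R)` fixing `R`.
-/

set_option autoImplicit false
set_option linter.style.haveILetI false
set_option linter.unusedSectionVars false
set_option maxHeartbeats 800000

namespace CfsgLib.FusionBasics.Meet

open Cfsg Cfsg.FusionSystem CfsgLib.Alperin CfsgLib.FusionBasics CfsgLib.FusionSub

universe u

variable {Ω : Type u} [Group Ω] {S T₁ T₂ : Subgroup Ω} [Finite S] {p : ℕ} [Fact p.Prime]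
  {F : FusionSystem S} {E₁ : FusionSystem T₁} {E₂ : FusionSystem T₂}
variable (h : MeetData F E₁ E₂ p)
include h

/-- The classes of the inclusion of `W`. -/
abbrev Cls (W : Subgroup Ω) (c : Delta h) : Prop := Cl h W W.subtype c

theorem cls_of_same {W : Subgroup Ω} {φ : W →* Ω} (hinj : Function.Injective φ) {c d : Delta h}
    (hc : Cl h W φ c) (hd : Cl h W φ d) : Cls h W (c⁻¹ * d) := by
  let θ : φ.range →* Ω := W.subtype.comp (MonoidHom.ofInjective hinj).symm.toMonoidHom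
  have hθ : ∀ (x : W) (hx : φ x ∈ φ.range), θ ⟨φ x, hx⟩ = x := fun x _ =>
    congrArg Subtype.val ((MonoidHom.ofInjective hinj).symm_apply_apply x)
  exact hd.comp (meetSystem_invCond h) (hc.inv (meetSystem_invCond h) rfl hθ) (fun x => ⟨x, rfl⟩)
    fun x => (hθ x ⟨x, rfl⟩).symm

theorem cls_restrict {W W' : Subgroup Ω} {c : Delta h} (hc : Cls h W c) (hle : W' ≤ W) :
    Cls h W' c :=
  hc.restrict hle fun _ => rfl

theorem cls_conj {W W' : Subgroup Ω} {φ : W →* Ω} (hinj : Function.Injective φ)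
    (hr : φ.range = W') {γ c : Delta h} (hγ : Cl h W φ γ) (hc : Cls h W c) :
    Cls h W' (γ * c * γ⁻¹) := by
  subst hr
  let θ : φ.range →* Ω := W.subtype.comp (MonoidHom.ofInjective hinj).symm.toMonoidHom
  have hθ : ∀ (x : W) (hx : φ x ∈ φ.range), θ ⟨φ x, hx⟩ = x := fun x _ =>
    congrArg Subtype.val ((MonoidHom.ofInjective hinj).symm_apply_apply x)
  have h1 := hc.comp (meetSystem_invCond h) hγ (fun x => x.2) (ρ := φ) fun _ => rfl
  refine (hγ.inv (meetSystem_invCond h) rfl hθ).comp (meetSystem_invCond h) h1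
    (fun y => ((MonoidHom.ofInjective hinj).symm y).2) fun y => ?_
  obtain ⟨x, rfl⟩ := (MonoidHom.ofInjective hinj).surjective y
  show φ x = φ _
  exact congrArg φ (Subtype.ext (hθ x ⟨x, rfl⟩).symm)

theorem cls_conj' {W W' : Subgroup Ω} {φ : W →* Ω} (hinj : Function.Injective φ)
    (hr : φ.range = W') {γ c : Delta h} (hγ : Cl h W φ γ) (hc : Cls h W' c) :
    Cls h W (γ⁻¹ * c * γ) := by
  subst hr
  let θ : φ.range →* Ω := W.subtype.comp (MonoidHom.ofInjective hinj).symm.toMonoidHom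
  have hθ : ∀ (x : W) (hx : φ x ∈ φ.range), θ ⟨φ x, hx⟩ = x := fun x _ =>
    congrArg Subtype.val ((MonoidHom.ofInjective hinj).symm_apply_apply x)
  have hθr : θ.range = W := by
    ext y
    constructor
    · rintro ⟨x, rfl⟩
      exact ((MonoidHom.ofInjective hinj).symm x).2
    · exact fun hy => ⟨_, hθ ⟨y, hy⟩ ⟨_, rfl⟩⟩
  have hinj' : Function.Injective θ := fun a b hab =>
    (MonoidHom.ofInjective hinj).symm.injective (Subtype.ext hab)
  have := cls_conj h hinj' hθr (hγ.inv (meetSystem_invCond h) rfl hθ) hc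
  rwa [inv_inv] at this

/-- `(a, c)` comes from an automorphism of `N_T(R)` modulo `Aut_D(R)`. -/
def Theta (R : Subgroup Ω) (a : MulAut R) (c : Delta h) : Prop :=
  ∃ g ∈ F.autGroup (normalizerIn (T₁ ⊓ T₂) R), ∃ m : MulAut R, Agree g m ∧
    a * m⁻¹ ∈ aGroup F E₁ E₂ p R ∧
    Cl h (normalizerIn (T₁ ⊓ T₂) R)
      ((normalizerIn (T₁ ⊓ T₂) R).subtype.comp (g : MulAut _).toMonoidHom) c

variable {R : Subgroup Ω} (hn : F.IsFullyNormalized R) (hR : TCentric F (T₁ ⊓ T₂) R)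
include hn hR

theorem agree_autGroup {g : MulAut (normalizerIn (T₁ ⊓ T₂) R)} (hg : g ∈ F.autGroup _)
    {m : MulAut R} (hgm : Agree g m) : m ∈ F.autGroup R :=
  (inHom_aut hn.1).mp (((inHom_aut ((normalizerIn_le _ R).trans h.closed.1)).mpr hg).of_agree hgm
    (le_normalizerIn hR.1))

theorem Theta.mul {a b : MulAut R} {c d : Delta h} (ha : Theta h R a c) (hb : Theta h R b d) :
    Theta h R (a * b) (c * d) := by
  obtain ⟨g, hg, m, hgm, hma, hgc⟩ := ha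
  obtain ⟨g', hg', m', hgm', hmb, hgd⟩ := hb
  refine ⟨g * g', mul_mem hg hg', m * m', hgm.mul hgm', ?_, Cl.aut_mul h hgc hgd⟩
  have := Subgroup.mul_mem _ hma (conj_mem_aGroup hn.1 (agree_autGroup h hn hR hg hgm) hmb)
  rwa [show a * m⁻¹ * (m * (b * m'⁻¹) * m⁻¹) = a * b * (m * m')⁻¹ by group] at this

theorem Theta.inv {a : MulAut R} {c : Delta h} (ha : Theta h R a c) : Theta h R a⁻¹ c⁻¹ := by
  obtain ⟨g, hg, m, hgm, hma, hgc⟩ := ha
  refine ⟨g⁻¹, Subgroup.inv_mem _ hg, m⁻¹, hgm.inv (le_normalizerIn hR.1), ?_, Cl.aut_inv h hgc⟩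
  have := conj_mem_aGroup hn.1 (Subgroup.inv_mem _ (agree_autGroup h hn hR hg hgm))
    (Subgroup.inv_mem _ hma)
  rwa [show m⁻¹ * (a * m⁻¹)⁻¹ * m⁻¹⁻¹ = a⁻¹ * m⁻¹⁻¹ by group] at this

theorem theta_of_mem {c : Delta h} (hc : c ∈ gamma0 h R) : Theta h R 1 c := by
  obtain ⟨e, he, he1, hec⟩ := (mem_gamma0 h).mp hc
  exact ⟨e, he, 1, he1, by simp, hec⟩

theorem theta_aGroup {κ : MulAut R} (hκ : κ ∈ aGroup F E₁ E₂ p R) : Theta h R κ 1 :=
  ⟨1, one_mem _, 1, agree_one, by simpa using hκ, Cl.aut_one h (normalizerIn_le _ R)⟩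

/-- The fibre over the identity. -/
theorem Theta.mem_gamma0 {c : Delta h} (hc : Theta h R 1 c) : c ∈ gamma0 h R := by
  obtain ⟨g, hg, m, hgm, hm, hgc⟩ := hc
  have hU : normalizerIn (T₁ ⊓ T₂) R ≤ T₁ ⊓ T₂ := normalizerIn_le _ R
  have hm' : m ∈ aGroup F E₁ E₂ p R := by simpa using hm
  obtain ⟨d, hd, hgd⟩ := exists_class_of_aGroup h hn hR (le_normalizerIn hR.1) le_rfl
    ((mem_autGroup_iff F (hU.trans h.closed.1)).mp hg) hm'
    (fun r => hgm r (le_normalizerIn hR.1 r.2) r.2)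
  have h1 := cls_top_le_gamma0 h (cls_of_same h
    (fun a b hab => g.injective (Subtype.ext hab)) hgd hgc)
  have := mul_mem (gammaZ_le_gamma0 h hd) h1
  rwa [mul_inv_cancel_left] at this

/-- Frattini: `Aut_F(R)` is `Aut_D(R)` times restrictions from `N_T(R)`, with the extensions
defined on `C_S(R)` too. -/
theorem exists_frattini {a : MulAut R} (ha : a ∈ F.autGroup R) :
    ∃ (g : MulAut (normalizerIn (T₁ ⊓ T₂) R)) (m : MulAut R) (D : Subgroup Ω) (ψ : D →* Ω),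
      g ∈ F.autGroup _ ∧ Agree g m ∧ a * m⁻¹ ∈ aGroup F E₁ E₂ p R ∧ ψ ∈ F.Hom D ∧
      ∃ hU : normalizerIn (T₁ ⊓ T₂) R ≤ D, centralizerIn S R ≤ D ∧
        ∀ x : normalizerIn (T₁ ⊓ T₂) R, ψ ⟨x, hU x.2⟩ = ((g x : normalizerIn (T₁ ⊓ T₂) R) : Ω) := by
  obtain ⟨κ, hκ, χ, hχ, hαχ, D, hRD, ψ, hDN, hψ, hψx, hbig⟩ :=
    frattini_extend h.pgroup h.saturated hn (aGroup F E₁ E₂ p R)
      (fun a ha b hb => conj_mem_aGroup hn.1 ha hb) ha
  have hU : normalizerIn (T₁ ⊓ T₂) R ≤ D := fun g hg => hbig g (h.closed.1 hg.1) hg.2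
    (autInducedBy_le_aGroup hn.1 (conjAut_mem hg.1 hg.2))
  have hC : centralizerIn S R ≤ D := fun g hg => by
    refine hbig g hg.1 (centralizerIn_le_normalizerIn S R hg).2 ?_
    rw [show conjAut R g (centralizerIn_le_normalizerIn S R hg).2 = 1 from MulEquiv.ext fun x =>
      Subtype.ext (show g * (x : Ω) * g⁻¹ = x by rw [← hg.2 x x.2, mul_inv_cancel_right])]
    exact one_mem _
  have hUS := (normalizerIn_le (T₁ ⊓ T₂) R).trans h.closed.1
  haveI := finite_of_le hUS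
  have hmap : (R.subgroupOf D).map ψ = R := map_eq_of_apply hRD hψx
  obtain ⟨g, hg, hgx⟩ := exists_aut_of_hom' F (restrict_mem hψ hU) fun x =>
    ⟨stronglyClosed_apply h.closed hψ ⟨x, hU x.2⟩ x.2.1,
      (apply_mem_normalizerIn hψ hRD hmap ⟨x, hU x.2⟩ x.2.2).2⟩
  refine ⟨g, χ, D, ψ, hg, fun x hU' hR' => ?_, ?_, hψ, hU, hC, fun x => (hgx x).symm⟩
  · exact (hgx ⟨x, hU'⟩).trans (hψx ⟨x, hR'⟩)
  · rw [hαχ, mul_inv_cancel_right]
    exact hκ.1

omit hn hR in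
/-- The induction hypothesis. -/
def ClsBelow (R : Subgroup Ω) : Prop :=
  ∀ R' : Subgroup Ω, F.IsFullyNormalized R' → TCentric F (T₁ ⊓ T₂) R' →
    Nat.card R < Nat.card R' → ∀ c, Cls h R' c → c ∈ gamma0 h R'

variable (hbelow : ClsBelow h R)
include hbelow

/-- Classes of identity maps on the subgroups strictly between `R` and `N_T(R)`. -/
theorem cls_above : ∀ {V : Subgroup Ω}, R < V → V ≤ normalizerIn (T₁ ⊓ T₂) R → ∀ {c : Delta h},
    Cls h V c → c ∈ gamma0 h R := by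
  set U := normalizerIn (T₁ ⊓ T₂) R with hUdef
  have hUT : U ≤ T₁ ⊓ T₂ := normalizerIn_le _ R
  haveI := finite_of_le (hUT.trans h.closed.1)
  suffices H : ∀ (n : ℕ) {V : Subgroup Ω}, Nat.card U - Nat.card V = n → R < V → V ≤ U →
      ∀ {c : Delta h}, Cls h V c → c ∈ gamma0 h R from fun {V} h₁ h₂ {c} hc => H _ rfl h₁ h₂ hc
  intro n
  induction n using Nat.strong_induction_on with
  | _ n ih =>
  intro V hnV hRV hVU c hc
  rcases hVU.eq_or_lt with rfl | hlt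
  · exact cls_top_le_gamma0 h hc
  have hVS : V ≤ S := hVU.trans (hUT.trans h.closed.1)
  have hVcard : Nat.card R < Nat.card V := card_lt_card (S := S) hVS hRV
  have hUcard : Nat.card V < Nat.card U := card_lt_card (S := S) (hUT.trans h.closed.1) hlt
  -- a map to a fully centralized `Vc ≤ U` acting on `R` as a member of `Aut_D(R)`
  obtain ⟨V'', hVV'', hV''n⟩ := exists_isFullyNormalized F hVS
  obtain ⟨η₀, hη₀, -, hη₀m⟩ :=
    exists_hom_normalizerIn_of_fullyNormalized h.pgroup h.saturated hV''n hVV''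
  have hVN := le_normalizerIn (S := S) hVS
  obtain ⟨e₀, he₀, he₀x⟩ := exists_iso hη₀ hVN hη₀m
  set R'' := (R.subgroupOf V).map (V''.subtype.comp e₀.toMonoidHom) with hR''
  obtain ⟨r₀, hr₀, he₀r⟩ := exists_restrict he₀ hRV.le (rfl : _ = R'')
  have hR''V : R'' ≤ V'' := by
    rintro _ ⟨x, -, rfl⟩
    exact (e₀ x).2
  have hV''S : V'' ≤ S := hV''n.1
  have hV''N : V'' ≤ normalizerIn S R'' := fun y hy => by
    obtain ⟨x, hx⟩ := e₀.surjective ⟨y, hy⟩
    have := apply_mem_normalizerIn (P := R) he₀ hRV.le rfl x (hVU x.2).2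
    exact (show V''.subtype.comp e₀.toMonoidHom x = y from congrArg Subtype.val hx) ▸ this
  obtain ⟨η₁, hη₁, -, hη₁m⟩ := exists_hom_normalizerIn_of_fullyNormalized h.pgroup h.saturated hn
    (CfsgLib.Alperin.IsConj.symm hr₀.isConj)
  have hR''N := le_normalizerIn (S := S) (hR''V.trans hV''S)
  obtain ⟨r₁, hr₁, hr₁x⟩ := exists_iso hη₁ hR''N hη₁m
  set a : MulAut R := r₀.trans r₁ with ha
  have haF : a ∈ F.autGroup R := (inHom_aut hn.1).mp (hr₀.trans hr₁)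
  obtain ⟨g, m, D, ψ, hg, hgm, hma, hψ, hUD, hCD, hψg⟩ :=
    exists_frattini h hn hR (Subgroup.inv_mem _ haF)
  set V₁ := (V''.subgroupOf (normalizerIn S R'')).map η₁ with hV₁
  obtain ⟨e₁, he₁, he₁x⟩ := exists_iso hη₁ hV''N (rfl : _ = V₁)
  have he₁r : Agree e₁ r₁ := fun x hV hR' => (he₁x ⟨x, hV⟩).trans (hr₁x ⟨x, hR'⟩).symm
  have hu : InHom F (e₀.trans e₁) := InHom.trans he₀ he₁
  have hua : Agree (e₀.trans e₁) a := he₀r.trans he₁r
  have hV₁U : V₁ ≤ U := by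
    rintro y hy
    obtain ⟨x, hx⟩ := (e₀.trans e₁).surjective ⟨y, hy⟩
    have hxy : ((e₀.trans e₁) x : Ω) = y := congrArg Subtype.val hx
    rw [← hxy]
    refine ⟨stronglyClosed_apply h.closed hu x (hUT (hVU x.2)), ?_⟩
    have hmap : (R.subgroupOf V).map (V₁.subtype.comp (e₀.trans e₁).toMonoidHom) = R :=
      map_eq_of_apply hRV.le (e := a) fun z => hua z (hRV.le z.2) z.2
    exact (apply_mem_normalizerIn hu hRV.le hmap x (hVU x.2).2).2
  have hV₁D : V₁ ≤ D := hV₁U.trans hUD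
  set Vc := (V₁.subgroupOf D).map ψ with hVc
  obtain ⟨e₂, he₂, he₂x⟩ := exists_iso hψ hV₁D (rfl : _ = Vc)
  have he₂m : Agree e₂ m := fun x hV hR' =>
    ((he₂x ⟨x, hV⟩).trans (hψg ⟨x, hV₁U hV⟩)).trans (hgm x (hV₁U hV) hR')
  set u := (e₀.trans e₁).trans e₂ with hudef
  have huF : InHom F u := hu.trans he₂
  have hum : Agree u (a.trans m) := hua.trans he₂m
  have hVcU : Vc ≤ U := by
    rintro _ ⟨w, hw, rfl⟩
    rw [show w = ⟨((⟨w, hV₁U hw⟩ : U) : Ω), hUD (hV₁U hw)⟩ from rfl, hψg]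
    exact (g _).2
  have hAm : (a.trans m : MulAut R) ∈ aGroup F E₁ E₂ p R := by
    have h1 := conj_mem_aGroup hn.1 (Subgroup.inv_mem _ (Subgroup.mul_mem _
      (one_mem (F.autGroup R)) haF)) (one_mem (aGroup F E₁ E₂ p R))
    have h2 := Subgroup.inv_mem _ hma
    rwa [show (a⁻¹ * m⁻¹)⁻¹ = m * a by group] at h2
  have hVcc : F.IsFullyCentralized Vc := by
    refine ⟨hVcU.trans (hUT.trans h.closed.1), fun Q hQ => ?_⟩
    have hV''c := (centralized_automized_of_fullyNormalized h.pgroup h.saturated hV''n).1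
    refine (hV''c.2 Q (CfsgLib.Alperin.IsConj.trans
      (CfsgLib.Alperin.IsConj.trans (InHom.isConj he₁) (InHom.isConj he₂)) hQ)).trans ?_
    have hC1 : centralizerIn S V'' ≤ normalizerIn S R'' := (le_trans
      (inf_le_inf_left _ (Subgroup.centralizer_le hR''V)) (centralizerIn_le_normalizerIn S R''))
    have hstep1 : Nat.card (centralizerIn S V'') ≤ Nat.card (centralizerIn S V₁) := by
      haveI := finite_of_le (centralizerIn_le S V₁)
      exact card_le_of_maps_to (F.injective_of_mem hη₁) hC1 (centralizerIn_le S V₁) fun x hx =>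
        apply_mem_centralizerIn hη₁ hV''N rfl x hx.2
    refine hstep1.trans ?_
    have hC2 : centralizerIn S V₁ ≤ D := by
      refine le_trans (inf_le_inf_left _ (Subgroup.centralizer_le ?_)) hCD
      rw [← hη₁m]
      exact Subgroup.map_mono (Subgroup.comap_mono hR''V)
    haveI := finite_of_le (centralizerIn_le S Vc)
    exact card_le_of_maps_to (F.injective_of_mem hψ) hC2 (centralizerIn_le S Vc) fun x hx =>
      apply_mem_centralizerIn hψ hV₁D rfl x hx.2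
  obtain ⟨γm, hγm, hucl⟩ := exists_class_of_aGroup h hn hR hRV.le hVU huF hAm
    (fun r => hum r (hRV.le r.2) r.2)
  have hcstar : Cls h Vc (γm * c * γm⁻¹) :=
    cls_conj h (F.injective_of_mem huF) (equiv_range u) hucl hc
  suffices hgoal : γm * c * γm⁻¹ ∈ gamma0 h R by
    have := mul_mem (mul_mem (inv_mem (gammaZ_le_gamma0 h hγm)) hgoal) (gammaZ_le_gamma0 h hγm)
    rwa [show γm⁻¹ * (γm * c * γm⁻¹) * γm = c by group] at this
  generalize γm * c * γm⁻¹ = c' at hcstar ⊢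
  have hVcS : Vc ≤ S := hVcc.1
  have hcardVc : Nat.card Vc = Nat.card V := CfsgLib.Alperin.IsConj.card_eq huF.isConj
  have hRVc : R ≤ Vc := fun r hr => by
    obtain ⟨r', hr'⟩ := (a.trans m).surjective ⟨r, hr⟩
    have := hum r' (hRV.le r'.2) r'.2
    exact (show (u ⟨r', hRV.le r'.2⟩ : Ω) = r from this.trans (congrArg Subtype.val hr')) ▸ (u _).2
  -- to a fully normalized conjugate
  obtain ⟨Vn, hVVn, hVnn⟩ := exists_isFullyNormalized F hVcS
  obtain ⟨η, hη, hηN, hηm⟩ :=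
    exists_hom_normalizerIn_of_fullyNormalized h.pgroup h.saturated hVnn hVVn
  have hVnc : TCentric F (T₁ ⊓ T₂) Vn :=
    (hR.of_ge hRVc (hVcU.trans hUT)).of_isConj h.closed hVVn
  set W₀ := U ⊓ Subgroup.normalizer (Vc : Set Ω) with hW₀
  have hVcW : Vc < W₀ := by
    have hlt' : Vc < U := lt_of_le_of_ne hVcU fun e => by rw [e] at hcardVc; omega
    obtain ⟨y, hyU, hyN, hyV⟩ :=
      exists_mem_normalizer_not_mem h.pgroup hlt' (hUT.trans h.closed.1)
    exact lt_of_le_of_ne (le_inf hVcU Subgroup.le_normalizer) fun e => hyV (e.ge ⟨hyU, hyN⟩)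
  have hW₀U : W₀ ≤ U := inf_le_left
  have hW₀N : W₀ ≤ normalizerIn S Vc := fun y hy => ⟨h.closed.1 (hUT hy.1), hy.2⟩
  set w := η.comp (Subgroup.inclusion hW₀N) with hw
  have hwF : w ∈ F.Hom W₀ := restrict_mem hη hW₀N
  obtain ⟨γ, hγ⟩ := exists_cl h (hW₀U.trans hUT) hwF
  have hwU : ∀ y : W₀, w y ∈ normalizerIn (T₁ ⊓ T₂) Vn := fun y =>
    ⟨stronglyClosed_apply h.closed hwF y (hUT (hW₀U y.2)), (hηN _).2⟩
  have hc₂ : Cls h Vn (γ * c' * γ⁻¹) := by
    refine cls_conj h (φ := η.comp (Subgroup.inclusion (le_normalizerIn hVcS)))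
      (F.injective_of_mem (restrict_mem hη _)) ((range_comp_inclusion _ _).trans hηm)
      (hγ.restrict hVcW.le fun _ => rfl) hcstar
  obtain ⟨e, he, he1, hec⟩ := (mem_gamma0 h).mp (hbelow Vn hVnn hVnc
    (by rw [CfsgLib.Alperin.IsConj.card_eq hVVn, hcardVc]; exact hVcard) _ hc₂)
  have hUn : normalizerIn (T₁ ⊓ T₂) Vn ≤ T₁ ⊓ T₂ := normalizerIn_le _ Vn
  obtain ⟨cz, hcz, hecz⟩ := exists_class_of_aGroup h hVnn hVnc (le_normalizerIn hVnc.1) le_rfl
    ((mem_autGroup_iff F (hUn.trans h.closed.1)).mp he) (one_mem (aGroup F E₁ E₂ p Vn))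
    (fun r => he1 r (le_normalizerIn hVnc.1 r.2) r.2)
  have hd : Cls h (normalizerIn (T₁ ⊓ T₂) Vn) (cz⁻¹ * (γ * c' * γ⁻¹)) :=
    cls_of_same h (fun x y hxy => e.injective (Subtype.ext hxy)) hecz hec
  have hih : ∀ {d : Delta h}, Cls h W₀ d → d ∈ gamma0 h R := by
    intro d hd
    refine ih (Nat.card U - Nat.card W₀) ?_ rfl (lt_of_le_of_lt hRVc hVcW) hW₀U hd
    have h1 : Nat.card Vc < Nat.card W₀ :=
      card_lt_card (S := S) (hW₀U.trans (hUT.trans h.closed.1)) hVcW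
    have h2 : Nat.card W₀ ≤ Nat.card U := Subgroup.card_le_of_le hW₀U
    omega
  have hd' : γ⁻¹ * (cz⁻¹ * (γ * c' * γ⁻¹)) * γ ∈ gamma0 h R :=
    hih (cls_conj' h (F.injective_of_mem hwF) rfl hγ (cls_restrict h hd (by
      rintro _ ⟨y, rfl⟩
      exact hwU y)))
  -- the element of `C_S(Vn)`
  obtain ⟨z, hz, rfl⟩ := exists_of_mem_gammaZ h hcz
  have hCV := centralizerIn_le_normalizerIn S Vc
  have hle : ((centralizerIn S Vc).subgroupOf (normalizerIn S Vc)).map η ≤ centralizerIn S Vn := by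
    rintro _ ⟨y, hy, rfl⟩
    exact apply_mem_centralizerIn hη (le_normalizerIn hVcS) hηm y hy.2
  haveI := finite_of_le (centralizerIn_le S Vn)
  have heq := Subgroup.eq_of_le_of_card_ge hle (by
    rw [Subgroup.card_map_of_injective (F.injective_of_mem hη),
      Nat.card_congr (Subgroup.subgroupOfEquivOfLe hCV).toEquiv]
    exact hVcc.2 Vn hVVn)
  obtain ⟨z₀, hz₀, hηz⟩ := heq.ge hz
  have hz₀C : (z₀ : Ω) ∈ centralizerIn S Vc := hz₀
  have hz₀R : (z₀ : Ω) ∈ centralizerIn S R :=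
    ⟨hz₀C.1, Subgroup.centralizer_le hRVc hz₀C.2⟩
  have hz₀W : ∀ y : W₀, (z₀ : Ω) * y * (z₀ : Ω)⁻¹ ∈ W₀ := fun y =>
    ⟨conj_normalizerIn h (centralizerIn_le_normalizerIn S R hz₀R) y.2.1,
      Subgroup.mul_mem _ (Subgroup.mul_mem _ (hCV hz₀C).2 y.2.2)
        (Subgroup.inv_mem _ (hCV hz₀C).2)⟩
  let c₀ : W₀ →* Ω := conjHom W₀ z₀
  have hc₀ := Cl.conj h (hW₀U.trans hUT) hz₀R.1 (φ := c₀) fun _ => rfl
  let θ : W₀ →* Ω := w.comp (c₀.codRestrict W₀ hz₀W)
  have hθ1 := hc₀.comp (meetSystem_invCond h) hγ hz₀W (ρ := θ) fun _ => rfl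
  have hθ2 := hγ.comp (meetSystem_invCond h)
    (Cl.conj h hUn hz.1 (φ := conjHom (normalizerIn (T₁ ⊓ T₂) Vn) z) fun _ => rfl) hwU (ρ := θ)
    fun y => by
      show η ⟨(z₀ : Ω) * y * (z₀ : Ω)⁻¹, _⟩ = z * η ⟨y, hW₀N y.2⟩ * z⁻¹
      rw [← hηz, ← map_inv, ← map_mul, ← map_mul]
      exact congrArg η (Subtype.ext rfl)
  have hc₀R : QuotientGroup.mk' (deltaKer h) (conjT h z₀ hz₀R.1) ∈ gamma0 h R :=
    gammaZ_le_gamma0 h (conjT_mem_gammaZ h hz₀R)
  have h1 := mul_mem hc₀R (hih (cls_of_same h (φ := θ)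
    (fun x y hxy => Subtype.ext (mul_left_cancel (mul_right_cancel
      (congrArg (fun v : W₀ => (v : Ω)) (F.injective_of_mem hwF hxy))))) hθ1 hθ2))
  have h2 := mul_mem h1 hd'
  convert h2 using 1
  group

/-- A map on `W ≤ N_T(R)` stabilizing `R` gives a pair in `Theta`. -/
theorem theta_of_map {W : Subgroup Ω} (hW : W ≤ normalizerIn (T₁ ⊓ T₂) R)
    (hbig : R < W ∨ W = normalizerIn (T₁ ⊓ T₂) R) {φ : W →* Ω} (hφ : φ ∈ F.Hom W) {a : MulAut R}
    (hRW : R ≤ W) (hφa : ∀ r : R, φ ⟨r, hRW r.2⟩ = ((a r : R) : Ω)) {c : Delta h}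
    (hc : Cl h W φ c) : Theta h R a c := by
  have hUT : normalizerIn (T₁ ⊓ T₂) R ≤ T₁ ⊓ T₂ := normalizerIn_le _ R
  have hmap : (R.subgroupOf W).map φ = R := map_eq_of_apply hRW hφa
  have hval : ∀ x : W, φ x ∈ normalizerIn (T₁ ⊓ T₂) R := fun x =>
    ⟨stronglyClosed_apply h.closed hφ x (hUT (hW x.2)),
      (apply_mem_normalizerIn hφ hRW hmap x (hW x.2).2).2⟩
  rcases hbig with hlt | rfl
  · have haF : a ∈ F.autGroup R :=
      (mem_autGroup_iff F hn.1).mpr (restrict_mem_apply hφ hRW fun r => (hφa r).symm)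
    obtain ⟨g, m, -, -, hg, hgm, hma, -⟩ := exists_frattini h hn hR haF
    have hgi := Subgroup.inv_mem _ hg
    obtain ⟨cg, hgc⟩ := exists_cl h hUT ((mem_autGroup_iff F (hUT.trans h.closed.1)).mp hg)
    set ψ : W →* Ω := ((normalizerIn (T₁ ⊓ T₂) R).subtype.comp
      (g⁻¹ : MulAut (normalizerIn (T₁ ⊓ T₂) R)).toMonoidHom).comp (φ.codRestrict _ hval) with hψ
    have hψF : ψ ∈ F.Hom W :=
      comp_mem_apply hφ ((mem_autGroup_iff F (hUT.trans h.closed.1)).mp hgi) hval fun _ => rfl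
    have hψR : ∀ r : R, ψ ⟨r, hRW r.2⟩ = (((m⁻¹ * a : MulAut R) r : R) : Ω) := fun r => by
      refine Eq.trans ?_ ((hgm.inv (le_normalizerIn hR.1)) (a r) (le_normalizerIn hR.1 (a r).2) (a r).2)
      exact congrArg (fun v : normalizerIn (T₁ ⊓ T₂) R => ((g⁻¹ v : _) : Ω)) (Subtype.ext (hφa r))
    have hmA : m⁻¹ * a ∈ aGroup F E₁ E₂ p R := by
      have := conj_mem_aGroup hn.1 (Subgroup.inv_mem _ (agree_autGroup h hn hR hg hgm)) hma
      rwa [show m⁻¹ * (a * m⁻¹) * m⁻¹⁻¹ = m⁻¹ * a by group] at this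
    obtain ⟨c₁, hc₁, hψc⟩ := exists_class_of_aGroup h hn hR hRW hW hψF hmA hψR
    have hφc := hψc.comp (meetSystem_invCond h) hgc (fun x => (g⁻¹ _).2) (ρ := φ) fun x => by
      show φ x = ((g (g⁻¹ ⟨φ x, hval x⟩) : normalizerIn (T₁ ⊓ T₂) R) : Ω)
      rw [MulAut.apply_inv_self]
    have hdiff := cls_above h hn hR hbelow hlt hW (cls_of_same h (F.injective_of_mem hφ) hφc hc)
    have h1 : Theta h R a cg := ⟨g, hg, m, hgm, hma, hgc⟩
    have := h1.mul h hn hR (theta_of_mem h hn hR (mul_mem (gammaZ_le_gamma0 h hc₁) hdiff))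
    rwa [mul_one, mul_inv_rev, show cg * (c₁ * (c₁⁻¹ * cg⁻¹ * c)) = c by group] at this
  · haveI := finite_of_le (hUT.trans h.closed.1)
    obtain ⟨g, hg, hgx⟩ := exists_aut_of_hom' F hφ hval
    refine ⟨g, hg, a, fun x hU hR' => (hgx ⟨x, hU⟩).trans (hφa ⟨x, hR'⟩), by simp,
      hc.congr fun x => (hgx x)⟩

/-- A transporter of `P` to `R`. -/
def Trans (P : Subgroup Ω) (e : P ≃* R) (γ : Delta h) : Prop :=
  P ≤ T₁ ⊓ T₂ ∧ ∃ ψ ∈ F.Hom (normalizerIn (T₁ ⊓ T₂) P),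
    (∀ (x : P) (hx : (x : Ω) ∈ normalizerIn (T₁ ⊓ T₂) P), ψ ⟨x, hx⟩ = (e x : Ω)) ∧
      Cl h (normalizerIn (T₁ ⊓ T₂) P) ψ γ

omit hbelow in
theorem exists_trans {P : Subgroup Ω} (hP : P ≤ T₁ ⊓ T₂) (hPR : F.IsConj P R) :
    ∃ (e : P ≃* R) (γ : Delta h), Trans h P e γ := by
  obtain ⟨η, hη, -, hηm⟩ :=
    exists_hom_normalizerIn_of_fullyNormalized h.pgroup h.saturated hn hPR
  have hle : normalizerIn (T₁ ⊓ T₂) P ≤ normalizerIn S P := inf_le_inf_right _ h.closed.1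
  obtain ⟨e, -, hex⟩ := exists_iso hη (le_normalizerIn (hP.trans h.closed.1)) hηm
  obtain ⟨γ, hγ⟩ := exists_cl h (normalizerIn_le _ P) (restrict_mem hη hle)
  exact ⟨e, γ, hP, _, restrict_mem hη hle, fun x hx => (hex x).symm, hγ⟩

/-- Comparing two transporters through a map of known class. -/
theorem theta_of_trans {P₀ P₁ Q : Subgroup Ω} {φ : Q →* Ω} (hφ : φ ∈ F.Hom Q) {cφ : Delta h}
    (hφ1 : Cl h Q φ cφ) (hP₀Q : P₀ ≤ Q) (hQN : Q ≤ normalizerIn (T₁ ⊓ T₂) P₀)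
    (hbig : P₀ < Q ∨ Q = normalizerIn (T₁ ⊓ T₂) P₀) (u : P₀ ≃* P₁)
    (hu : ∀ x : P₀, φ ⟨x, hP₀Q x.2⟩ = (u x : Ω)) {e : P₀ ≃* R} {γ : Delta h}
    {e' : P₁ ≃* R} {γ' : Delta h} (he : Trans h P₀ e γ) (he' : Trans h P₁ e' γ') :
    Theta h R ((e.symm.trans u).trans e' : MulAut R) (γ' * cφ * γ⁻¹) := by
  obtain ⟨hP₀T, ψ, hψ, hψx, hψc⟩ := he
  obtain ⟨hP₁T, ψ', hψ', hψ'x, hψ'c⟩ := he'
  have hP₀N := le_normalizerIn (S := T₁ ⊓ T₂) hP₀T
  set θ₀ := ψ.comp (Subgroup.inclusion hQN) with hθ₀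
  have hθ₀F : θ₀ ∈ F.Hom Q := restrict_mem hψ hQN
  set W := θ₀.range with hW
  obtain ⟨ζ, hζ, hζr, hζx, -⟩ := exists_inverse hθ₀F (rfl : θ₀.range = W)
  have hmapψ : (P₀.subgroupOf (normalizerIn (T₁ ⊓ T₂) P₀)).map ψ = R :=
    map_eq_of_apply hP₀N fun x => hψx x _
  have hWU : W ≤ normalizerIn (T₁ ⊓ T₂) R := by
    rintro _ ⟨x, rfl⟩
    exact ⟨stronglyClosed_apply h.closed hθ₀F x (normalizerIn_le _ P₀ (hQN x.2)),
      (apply_mem_normalizerIn hψ hP₀N hmapψ _ (hQN x.2).2).2⟩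
  have hRW : R ≤ W := fun r hr => by
    refine ⟨⟨e.symm ⟨r, hr⟩, hP₀Q (e.symm ⟨r, hr⟩).2⟩, ?_⟩
    show ψ _ = r
    exact (hψx _ (hQN (hP₀Q (e.symm ⟨r, hr⟩).2))).trans
      (congrArg Subtype.val (e.apply_symm_apply ⟨r, hr⟩))
  have hWcard : Nat.card W = Nat.card Q := card_range_eq (F.injective_of_mem hθ₀F)
  have hRcard : Nat.card R = Nat.card P₀ := (Nat.card_congr e.toEquiv).symm
  have hζQ : ∀ y : W, ζ y ∈ Q := fun y => hζr.le ⟨y, rfl⟩
  have hmapφ : (P₀.subgroupOf Q).map φ = P₁ := map_eq_of_apply hP₀Q hu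
  have hφN : ∀ x : Q, φ x ∈ normalizerIn (T₁ ⊓ T₂) P₁ := fun x =>
    ⟨stronglyClosed_apply h.closed hφ x (normalizerIn_le _ P₀ (hQN x.2)),
      (apply_mem_normalizerIn hφ hP₀Q hmapφ x (hQN x.2).2).2⟩
  set μ : Q →* Ω := ψ'.comp (φ.codRestrict _ hφN) with hμ
  have hμF : μ ∈ F.Hom Q := F.comp_mem hφ hψ' hφN
  set χ : W →* Ω := μ.comp (ζ.codRestrict Q hζQ) with hχ
  have hχF : χ ∈ F.Hom W := F.comp_mem hζ hμF hζQ
  have hχc : Cl h W χ (γ' * cφ * γ⁻¹) := by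
    have h1 := hφ1.comp (meetSystem_invCond h) hψ'c hφN (ρ := μ) fun _ => rfl
    exact ((hψc.restrict hQN fun _ => rfl).inv (meetSystem_invCond h) rfl hζx).comp
      (meetSystem_invCond h) h1 hζQ fun _ => rfl
  refine theta_of_map h hn hR hbelow hWU ?_ hχF hRW (fun r => ?_) hχc
  · rcases hbig with hlt | rfl
    · left
      refine lt_of_le_of_ne hRW fun eq => ?_
      have := card_lt_card (S := S)
        (hQN.trans ((normalizerIn_le _ P₀).trans h.closed.1)) hlt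
      rw [← eq] at hWcard
      omega
    · rcases hRW.eq_or_lt with heq | hlt
      · right
        have hPT : P₀ = T₁ ⊓ T₂ := by
          by_contra hne
          haveI := finite_of_le h.closed.1
          have hlt := CfsgLib.FusionSub.lt_normalizerIn (isPGroup_of_le h.pgroup h.closed.1)
            (lt_of_le_of_ne hP₀T hne)
          have := card_lt_card (S := S) ((normalizerIn_le _ P₀).trans h.closed.1) hlt
          rw [← heq] at hWcard
          omega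
        haveI := finite_of_le h.closed.1
        have hRT : R = T₁ ⊓ T₂ :=
          Subgroup.eq_of_le_of_card_ge hR.1 (by rw [hRcard, hPT])
        rw [← heq]
        exact le_antisymm (le_normalizerIn hR.1) ((normalizerIn_le _ R).trans hRT.ge)
      · exact Or.inl hlt
  · have e1 : (⟨(r : Ω), hRW r.2⟩ : W) =
        ⟨θ₀ ⟨e.symm r, hP₀Q (e.symm r).2⟩, ⟨_, rfl⟩⟩ :=
      Subtype.ext (((hψx _ (hQN (hP₀Q (e.symm r).2))).trans
        (congrArg Subtype.val (e.apply_symm_apply r))).symm)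
    show μ ⟨ζ ⟨(r : Ω), hRW r.2⟩, hζQ _⟩ = _
    have e2 : (⟨ζ ⟨(r : Ω), hRW r.2⟩, hζQ _⟩ : Q) = ⟨e.symm r, hP₀Q (e.symm r).2⟩ :=
      Subtype.ext ((congrArg ζ e1).trans (hζx _ _))
    rw [e2]
    show ψ' ⟨φ _, _⟩ = (e' (u (e.symm r)) : Ω)
    rw [← hψ'x (u (e.symm r)) (le_normalizerIn hP₁T (u (e.symm r)).2)]
    exact congrArg ψ' (Subtype.ext (hu (e.symm r)))

/-- Every map of the meet is compatible with all transporters. -/
def GoodMap {P : Subgroup Ω} (φ : P →* Ω) : Prop :=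
  ∀ (P₀ P₁ : Subgroup Ω) (hP₀ : P₀ ≤ P) (u : P₀ ≃* P₁),
    (∀ x : P₀, φ ⟨x, hP₀ x.2⟩ = (u x : Ω)) → ∀ (e : P₀ ≃* R) (γ : Delta h),
    Trans h P₀ e γ → ∀ (e' : P₁ ≃* R) (γ' : Delta h), Trans h P₁ e' γ' →
      Theta h R ((e.symm.trans u).trans e' : MulAut R) (γ' * γ⁻¹)

/-- The maps of the meet compatible with all transporters form a system. -/
def goodSys : FusionSystem (T₁ ⊓ T₂) where
  Hom P := {φ | φ ∈ (meetSystem h).Hom P ∧ GoodMap h (R := R) φ}
  le_of_mem hm := (meetSystem h).le_of_mem hm.1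
  injective_of_mem hm := (meetSystem h).injective_of_mem hm.1
  conj_mem := by
    intro P g hP hg
    refine ⟨(meetSystem h).conj_mem hP hg, fun P₀ P₁ hP₀ u hu e γ he e' γ' he' => ?_⟩
    rw [← mul_one γ']
    refine theta_of_trans h hn hR hbelow (Q := normalizerIn (T₁ ⊓ T₂) P₀)
      (φ := conjHom _ g) (F.conj_mem ((normalizerIn_le _ P₀).trans h.closed.1) (h.closed.1 hg))
      (ClT.of_mem ((meetSystem h).conj_mem (normalizerIn_le _ P₀) hg))
      (le_normalizerIn (hP₀.trans hP)) le_rfl (Or.inr rfl) u (fun x => ?_) he he'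
    exact hu x
  comp_mem := by
    rintro P Q φ ψ ⟨hφ, hφg⟩ ⟨hψ, hψg⟩ hPQ
    refine ⟨(meetSystem h).comp_mem hφ hψ hPQ, fun P₀ P₂ hP₀ u hu e γ he e' γ' he' => ?_⟩
    set P₁ := (P₀.subgroupOf P).map φ
    have hφF : φ ∈ F.Hom P := meetSystem_isSubsystemOf h P hφ
    obtain ⟨u₁, hu₁, hu₁x⟩ := exists_iso hφF hP₀ (rfl : _ = P₁)
    have hP₁Q : P₁ ≤ Q := by
      rintro _ ⟨x, -, rfl⟩
      exact hPQ x
    have hP₁T : P₁ ≤ T₁ ⊓ T₂ := hP₁Q.trans (dom_le hψ)
    have hconj : F.IsConj P₁ R := by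
      obtain ⟨-, χ, hχ, hχx, -⟩ := he
      have : InHom F e := restrict_mem_apply hχ
        (le_normalizerIn (hP₀.trans (dom_le hφ))) fun x => (hχx x _).symm
      exact (InHom.trans (InHom.symm hu₁) this).isConj
    obtain ⟨e₁, γ₁, he₁⟩ := exists_trans h hn hR hP₁T hconj
    have h1 := hφg P₀ P₁ hP₀ u₁ (fun x => (hu₁x x).symm) e γ he e₁ γ₁ he₁
    have h2 := hψg P₁ P₂ hP₁Q (u₁.symm.trans u) (fun y => by
      obtain ⟨x, rfl⟩ := u₁.surjective y
      rw [MulEquiv.trans_apply, MulEquiv.symm_apply_apply, ← hu x]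
      exact congrArg ψ (Subtype.ext (hu₁x x))) e₁ γ₁ he₁ e' γ' he'
    have := h2.mul h hn hR h1
    convert this using 1
    · refine MulEquiv.ext fun r => ?_
      show e' (u (e.symm r)) = e' (u (u₁.symm (e₁.symm (e₁ (u₁ (e.symm r))))))
      simp
    · group
  inv_mem := by
    rintro P φ ⟨hφ, hφg⟩
    obtain ⟨θ, hθ, -, hθx, -⟩ := exists_inverse hφ rfl
    refine ⟨θ, ⟨hθ, fun P₁ P₀ hP₁ u hu e γ he e' γ' he' => ?_⟩, fun x => hθx x ⟨x, rfl⟩⟩
    have hP₀ : P₀ ≤ P := fun y hy => by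
      obtain ⟨x, hx⟩ := u.surjective ⟨y, hy⟩
      obtain ⟨w, hw⟩ := hP₁ x.2
      have h1 := hu x
      rw [show (⟨(x : Ω), hP₁ x.2⟩ : φ.range) = ⟨φ w, ⟨w, rfl⟩⟩ from Subtype.ext hw.symm,
        hθx w ⟨w, rfl⟩] at h1
      have e1 : (u x : Ω) = y := congrArg Subtype.val hx
      rw [← e1, ← h1]
      exact w.2
    have h1 := hφg P₀ P₁ hP₀ u.symm (fun y => by
      obtain ⟨x, rfl⟩ := u.surjective y
      rw [MulEquiv.symm_apply_apply]
      obtain ⟨w, hw⟩ := hP₁ x.2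
      have h2 := hu x
      rw [show (⟨(x : Ω), hP₁ x.2⟩ : φ.range) = ⟨φ w, ⟨w, rfl⟩⟩ from Subtype.ext hw.symm,
        hθx w ⟨w, rfl⟩] at h2
      rw [← hw]
      exact congrArg φ (Subtype.ext h2.symm)) e' γ' he' e γ he
    have := h1.inv h hn hR
    convert this using 1
    · exact MulEquiv.ext fun _ => rfl
    · group

/-- All maps of the meet are compatible with the transporters. -/
theorem goodMap_of_mem {P : Subgroup Ω} {φ : P →* Ω} (hφ : φ ∈ (meetSystem h).Hom P) :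
    GoodMap h (R := R) φ := by
  refine (meetSystem_le h (Y := goodSys h hn hR hbelow) ?_ hφ).2
  intro Q hQ β hβ
  refine (mem_autGroup_iff _ hQ.1).mpr
    ⟨(mem_autGroup_iff _ hQ.1).mp (aGroup_le_meetSystem h hQ hβ), ?_⟩
  intro P₀ P₁ hP₀ u hu e γ he e' γ' he'
  have hP₀T : P₀ ≤ T₁ ⊓ T₂ := hP₀.trans hQ.1
  rcases hP₀.eq_or_lt with rfl | hlt
  · have hP₁ : P₁ = P₀ := by
      ext y
      constructor
      · intro hy
        obtain ⟨x, hx⟩ := u.surjective ⟨y, hy⟩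
        have e1 : (u x : Ω) = y := congrArg Subtype.val hx
        rw [← e1, ← hu x]
        exact (β _).2
      · intro hy
        obtain ⟨x, hx⟩ := β.surjective ⟨y, hy⟩
        have e1 : (β x : Ω) = y := congrArg Subtype.val hx
        rw [← e1, show (β x : Ω) = (u x : Ω) from hu x]
        exact (u x).2
    subst hP₁
    have hub : u = β := MulEquiv.ext fun x => Subtype.ext (hu x).symm
    subst hub
    have hUS := (normalizerIn_le (T₁ ⊓ T₂) P₁).trans h.closed.1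
    have h1 : Theta h R (e.symm.trans e' : MulAut R) (γ' * γ⁻¹) := by
      have := theta_of_trans h hn hR hbelow (incl_mem F hUS)
        (Cl.incl h (normalizerIn_le _ P₁)) (le_normalizerIn hP₀T) le_rfl (Or.inr rfl)
        (MulEquiv.refl P₁) (fun _ => rfl) he he'
      rwa [mul_one] at this
    have heF : InHom F e' := by
      obtain ⟨-, χ, hχ, hχx, -⟩ := he'
      exact restrict_mem_apply hχ (le_normalizerIn hP₀T) fun x => (hχx x _).symm
    have h2 := (theta_aGroup h hn hR (congr_mem_aGroup heF hβ)).mul h hn hR h1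
    rw [one_mul] at h2
    convert h2 using 1
    refine MulEquiv.ext fun r => ?_
    show e' (u (e.symm r)) = e' (u (e'.symm (e' (e.symm r))))
    rw [MulEquiv.symm_apply_apply]
  · set W := Q ⊓ Subgroup.normalizer (P₀ : Set Ω) with hW
    have hWQ : W ≤ Q := inf_le_left
    have hβF := (mem_autGroup_iff F (hQ.1.trans h.closed.1)).mp
      (aGroup_le_autGroup h.inv₁.2.1.1 hβ)
    rw [← mul_one γ']
    refine theta_of_trans h hn hR hbelow (Q := W) (restrict_mem hβF hWQ)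
      ((Cl.of_aGroup h hQ hβ).restrict hWQ fun _ => rfl) (le_inf hlt.le Subgroup.le_normalizer)
      (fun y hy => ⟨hQ.1 hy.1, hy.2⟩) (Or.inl ?_) u (fun x => hu x) he he'
    obtain ⟨y, hyQ, hyN, hyP⟩ :=
      exists_mem_normalizer_not_mem h.pgroup hlt (hQ.1.trans h.closed.1)
    exact lt_of_le_of_ne (le_inf hlt.le Subgroup.le_normalizer) fun eq => hyP (eq.ge ⟨hyQ, hyN⟩)

/-- The step of the induction. -/
theorem cls_le_gamma0_step {c : Delta h} (hc : Cls h R c) : c ∈ gamma0 h R := by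
  obtain ⟨α, rfl, ε, hε, hx⟩ := id hc
  let T := T₁ ⊓ T₂
  set P₁ := ε.range with hP₁
  have hP₁T : P₁ ≤ T := range_le hε
  obtain ⟨u, -, hux⟩ := exists_iso (F := meetSystem h) hε le_rfl (rfl : _ = (R.subgroupOf R).map ε)
  have hinj := (meetSystem h).injective_of_mem hε
  set v := isoOfHom ε hinj (rfl : ε.range = P₁)
  have he : Trans h R (MulEquiv.refl R) (1 : Delta h) :=
    ⟨hR.1, _, incl_mem F ((normalizerIn_le _ R).trans h.closed.1), fun x _ => rfl,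
      Cl.incl h (normalizerIn_le _ R)⟩
  have hαT : InHom F (α : MulAut T) := (inHom_aut h.closed.1).mpr α.2
  have hαx : ∀ x : R, (((α : MulAut T) ⟨v x, apply_mem hε x⟩ : T) : Ω) = x := fun x =>
    (hx x _).symm
  let e' : P₁ ≃* R := v.symm
  have he' : Trans h P₁ e' (QuotientGroup.mk' (deltaKer h) α) := by
    have hle := normalizerIn_le T P₁
    refine ⟨hP₁T, (T.subtype.comp (α : MulAut T).toMonoidHom).comp (Subgroup.inclusion hle),
      restrict_mem ((mem_autGroup_iff F h.closed.1).mp α.2) hle, fun y hy => ?_,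
      ClT.of_aut α hle fun x => rfl⟩
    obtain ⟨x, rfl⟩ := v.surjective y
    show (((α : MulAut T) ⟨v x, _⟩ : T) : Ω) = ((v.symm (v x) : R) : Ω)
    rw [MulEquiv.symm_apply_apply]
    exact hαx x
  have := goodMap_of_mem h hn hR hbelow hε R P₁ le_rfl v (fun x => rfl) _ _ he _ _ he'
  rw [inv_one, mul_one, show ((MulEquiv.refl R).symm.trans v).trans e' = (1 : MulAut R) from
    MulEquiv.ext fun x => v.symm_apply_apply x] at this
  exact this.mem_gamma0 h hn hR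

omit hn hR hbelow in
/-- The classes of the identity of a fully normalized `T`-centric `R` come from automorphisms of
`N_T(R)` fixing `R`. -/
theorem cls_le_gamma0 : ∀ {R : Subgroup Ω}, F.IsFullyNormalized R → TCentric F (T₁ ⊓ T₂) R →
    ∀ {c : Delta h}, Cls h R c → c ∈ gamma0 h R := by
  suffices H : ∀ (n : ℕ) {R : Subgroup Ω}, Nat.card S - Nat.card R = n → F.IsFullyNormalized R →
      TCentric F (T₁ ⊓ T₂) R → ∀ {c : Delta h}, Cls h R c → c ∈ gamma0 h R from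
    fun {R} h₁ h₂ {c} h₃ => H _ rfl h₁ h₂ h₃
  intro n
  induction n using Nat.strong_induction_on with
  | _ n ih =>
  intro R hnR hn hR c hc
  refine cls_le_gamma0_step h hn hR (fun R' hn' hR' hlt c' hc' => ?_) hc
  refine ih (Nat.card S - Nat.card R') ?_ rfl hn' hR' hc'
  have := Subgroup.card_le_of_le hn'.1
  omega

omit hn hR hbelow in
theorem clsBelow (R : Subgroup Ω) : ClsBelow h R := fun _ hn' hR' _ _ hc =>
  cls_le_gamma0 h hn' hR' hc

end CfsgLib.FusionBasics.Meet
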