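import Cfsg.Agent.Lib.FusionBasics.Meet.Classes
import Cfsg.Agent.Lib.FusionBasics.KSystem
import Cfsg.Agent.Lib.FusionBasics.KSaturated

/-!
The maps acting on a fully normalized `R` as members of `Aut_D(R)` have classes coming from
`C_S(R)`.
-/

set_option autoImplicit false
set_option linter.style.haveILetI false
set_option linter.unusedSectionVars false

namespace CfsgLib.FusionBasics.Meet

open Cfsg Cfsg.FusionSystem CfsgLib.Alperin CfsgLib.FusionBasics CfsgLib.FusionSub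

universe u

variable {Ω : Type u} [Group Ω] {S T₁ T₂ : Subgroup Ω} [Finite S] {p : ℕ} [Fact p.Prime]
  {F : FusionSystem S} {E₁ : FusionSystem T₁} {E₂ : FusionSystem T₂}
/-- The system of the maps acting on `R` as members of `Aut_D(R)`. -/
def linkSys (_h : MeetData F E₁ E₂ p) {R : Subgroup Ω} (hn : F.IsFullyNormalized R)
    (_hR : TCentric F (T₁ ⊓ T₂) R) : FusionSystem (normL S R (aGroup F E₁ E₂ p R)) :=
  kSystem F R (aGroup F E₁ E₂ p R) _ hn.1 (fun _ hg => hg.1) fun _ hg => by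
    obtain ⟨-, β, hβ, hx⟩ := hg
    exact ⟨β, hβ, hx⟩

variable (h : MeetData F E₁ E₂ p) {R : Subgroup Ω} (hn : F.IsFullyNormalized R)
  (hR : TCentric F (T₁ ⊓ T₂) R)
include h hn hR

theorem normalizerIn_le_normL :
    normalizerIn (T₁ ⊓ T₂) R ≤ normL S R (aGroup F E₁ E₂ p R) := fun t ht =>
  ⟨h.closed.1 ht.1, conjAut R t ht.2, autInducedBy_le_aGroup hn.1 (conjAut_mem ht.1 ht.2),
    fun _ => rfl⟩

theorem linkSys_hom (P : Subgroup Ω) :
    (linkSys h hn hR).Hom P =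
      kHom F R (aGroup F E₁ E₂ p R) (normL S R (aGroup F E₁ E₂ p R)) P := rfl

theorem linkSys_saturated : (linkSys h hn hR).IsSaturated p := by
  refine kSystem_saturated h.pgroup h.saturated
    (receptive_of_fullyNormalized h.pgroup h.saturated hn) ?_ rfl _ (linkSys_hom h hn hR)
  rw [autInducedBy_inf_aGroup h hR hn, inf_of_le_right (aGroup_le_autGroup h.inv₁.2.1.1)]
  haveI := finite_of_le (S := S) hn.1
  haveI := finite_mulAut (P := R)
  have hp : IsPGroup p ((autInducedBy (T₁ ⊓ T₂) R).subgroupOf (aGroup F E₁ E₂ p R)) :=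
    (isPGroup_autInducedBy (isPGroup_of_le h.pgroup h.closed.1) R).comap_of_injective _
      (Subgroup.subtype_injective _)
  have := (hp.toSylow (show ¬ p ∣ ((autInducedBy (T₁ ⊓ T₂) R).subgroupOf _).index from
    not_dvd_relIndex_autInducedBy h hR hn)).card_eq_multiplicity
  rwa [IsPGroup.toSylow_coe,
    Nat.card_congr (Subgroup.subgroupOfEquivOfLe (autInducedBy_le_aGroup hn.1)).toEquiv] at this

/-- Every map of the link system with `R` in its source has a class from `C_S(R)`. -/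
theorem exists_class_linkSys {Y : Subgroup Ω} {φ : Y →* Ω} (hφ : φ ∈ (linkSys h hn hR).Hom Y)
    (hRY : R ≤ Y) :
    ∃ c ∈ gammaZ h R, Cl h (Y ⊓ (T₁ ⊓ T₂)) (φ.comp (Subgroup.inclusion inf_le_left)) c := by
  set A := aGroup F E₁ E₂ p R with hA
  set V := normL S R A with hV
  haveI : Finite V := finite_of_le fun g hg => hg.1
  have hVp : IsPGroup p V := isPGroup_of_le h.pgroup fun g hg => hg.1
  have hinv := meetSystem_invCond h
  have hstab : ∀ {P : Subgroup Ω} {χ : P →* Ω}, χ ∈ (linkSys h hn hR).Hom P →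
      ∀ r : R, ∃ r' : R, ∀ hP : (r' : Ω) ∈ P, χ ⟨r', hP⟩ = r := by
    intro P χ hχ r
    obtain ⟨-, -, -, ψ, -, hψx, α, -, hψα⟩ := hχ
    refine ⟨α⁻¹ r, fun hP => ?_⟩
    rw [← hψx ⟨_, hP⟩]
    refine Eq.trans (congrArg ψ (Subtype.ext rfl)) ((hψα (α⁻¹ r)).trans ?_)
    rw [MulAut.apply_inv_self]
  refine closed_induction hVp (linkSys_saturated h hn hR)
    (Good := fun P χ => R ≤ P → ∃ c ∈ gammaZ h R,
      Cl h (P ⊓ (T₁ ⊓ T₂)) (χ.comp (Subgroup.inclusion inf_le_left)) c)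
    ⟨?_, ?_, ?_⟩ ?_ hφ hRY
  · intro P Q χ hQ _ hG hRQ
    obtain ⟨c, hc, hcl⟩ := hG (hRQ.trans hQ)
    exact ⟨c, hc, hcl.restrict (inf_le_inf_right _ hQ) fun _ => rfl⟩
  · intro P Q χ χ' hχ hχ' hPQ hG hG' hRP
    obtain ⟨c, hc, hcl⟩ := hG hRP
    have hRQ : R ≤ Q := fun r hr => by
      obtain ⟨r', hr'⟩ := hstab hχ ⟨r, hr⟩
      have := hr' (hRP r'.2)
      show ((⟨r, hr⟩ : R) : Ω) ∈ Q
      rw [← this]
      exact hPQ _
    obtain ⟨d, hd, hdl⟩ := hG' hRQ
    refine ⟨d * c, mul_mem hd hc, hcl.comp hinv hdl (fun x => ⟨hPQ _, ?_⟩) fun _ => rfl⟩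
    exact stronglyClosed_apply h.closed hχ.1 ⟨x, x.2.1⟩ x.2.2
  · intro P Q χ θ hχ hθ hr hθχ hG hRQ
    have hRP : R ≤ P := fun r hr' => by
      obtain ⟨-, -, -, ψ, hψ, hψx, α, hα, hψα⟩ := hχ
      obtain ⟨x, hx⟩ := hr.ge (hRQ (α ⟨r, hr'⟩).2)
      have h1 := (hψx x).trans (hx.trans (hψα ⟨r, hr'⟩).symm)
      have h2 := congrArg (fun w : ↥(P ⊔ R) => (w : Ω)) (F.injective_of_mem hψ h1)
      exact (show (x : Ω) = r from h2) ▸ x.2
    obtain ⟨c, hc, hcl⟩ := hG hRP
    refine ⟨c⁻¹, inv_mem hc, hcl.inv hinv ?_ fun x hx => ?_⟩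
    · ext y
      constructor
      · rintro ⟨x, rfl⟩
        exact ⟨hr.le ⟨_, rfl⟩, stronglyClosed_apply h.closed hχ.1 ⟨x, x.2.1⟩ x.2.2⟩
      · rintro ⟨hy, hyT⟩
        obtain ⟨x, hx⟩ := hr.ge hy
        refine ⟨⟨x, x.2, ?_⟩, hx⟩
        have h1 := stronglyClosed_apply h.closed hθ.1 ⟨χ x, hr.le ⟨x, rfl⟩⟩ (hx ▸ hyT)
        rwa [hθχ x] at h1
    · exact hθχ ⟨x, x.2.1⟩ _
  · -- automorphisms of a fully normalized source
    intro P hP _ a ha hRP
    set W := P ⊓ (T₁ ⊓ T₂) with hW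
    have hWT : W ≤ T₁ ⊓ T₂ := inf_le_right
    have hRW : R ≤ W := le_inf hRP hR.1
    have hWc : TCentric F (T₁ ⊓ T₂) W := hR.of_ge hRW hWT
    have hPV : P ≤ V := hP.1
    have hPS : P ≤ S := hPV.trans fun g hg => hg.1
    have haN : ∀ {b : MulAut P}, b ∈ (linkSys h hn hR).autGroup P → b ∈ F.autGroup P ∧
        ∃ m ∈ A, Agree b m := by
      intro b hb
      obtain ⟨hbF, -, -, ψ, -, hψx, α, hα, hψα⟩ := (mem_autGroup_iff _ hPV).mp hb
      refine ⟨(mem_autGroup_iff F hPS).mpr hbF, α, hα, fun x hxP hxR => ?_⟩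
      exact (hψx ⟨x, hxP⟩).symm.trans ((congrArg ψ (Subtype.ext rfl)).trans (hψα ⟨x, hxR⟩))
    let B : Subgroup (MulAut P) :=
      { carrier := {b | b ∈ F.autGroup P ∧ ∃ c ∈ gammaZ h R,
          Cl h W ((P.subtype.comp (b : MulAut P).toMonoidHom).comp
            (Subgroup.inclusion inf_le_left)) c}
        one_mem' := ⟨one_mem _, 1, one_mem _, (Cl.incl h hWT).congr fun _ => rfl⟩
        mul_mem' := by
          rintro b b' ⟨hb, c, hc, hcl⟩ ⟨hb', d, hd, hdl⟩
          refine ⟨mul_mem hb hb', c * d, mul_mem hc hd,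
            hdl.comp hinv hcl (fun x => ⟨(b' _).2, ?_⟩) fun _ => rfl⟩
          exact stronglyClosed_apply h.closed ((mem_autGroup_iff F hPS).mp hb') ⟨x, x.2.1⟩ x.2.2
        inv_mem' := by
          rintro b ⟨hb, c, hc, hcl⟩
          refine ⟨Subgroup.inv_mem _ hb, c⁻¹, inv_mem hc, hcl.inv hinv ?_ fun x hx => ?_⟩
          · ext y
            constructor
            · rintro ⟨x, rfl⟩
              exact ⟨(b _).2,
                stronglyClosed_apply h.closed ((mem_autGroup_iff F hPS).mp hb) ⟨x, x.2.1⟩ x.2.2⟩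
            · rintro ⟨hy, hyT⟩
              refine ⟨⟨b.symm ⟨y, hy⟩, (b.symm _).2, ?_⟩, ?_⟩
              · exact stronglyClosed_apply h.closed
                  ((mem_autGroup_iff F hPS).mp (Subgroup.inv_mem _ hb)) ⟨y, hy⟩ hyT
              · exact congrArg Subtype.val (b.apply_symm_apply ⟨y, hy⟩)
          · exact congrArg Subtype.val (b.symm_apply_apply ⟨x, x.2.1⟩) }
    suffices hle : (linkSys h hn hR).autGroup P ≤ B from (hle ha).2
    refine autGroup_le_of_pPrime hVp (linkSys_saturated h hn hR) hP (fun b hb => ?_)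
      fun b hb hord => ?_
    · -- conjugations
      refine ⟨(haN (autInducedBy_le_autGroup _ hPV hb)).1, ?_⟩
      obtain ⟨g, hg, hgx⟩ := mem_autInducedBy_iff.mp hb
      obtain ⟨hgS, β, hβ, hβx⟩ := hg
      obtain ⟨t, ht, htx⟩ := mem_autInducedBy_iff.mp ((autInducedBy_inf_aGroup h hR hn).le
        ⟨mem_autInducedBy_iff.mpr ⟨g, hgS, hβx⟩, hβ⟩)
      have hz : t⁻¹ * g ∈ centralizerIn S R := by
        refine ⟨S.mul_mem (S.inv_mem (h.closed.1 ht)) hgS, fun q hq => ?_⟩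
        have h1 := (htx ⟨q, hq⟩).symm.trans (hβx ⟨q, hq⟩)
        calc q * (t⁻¹ * g) = t⁻¹ * (t * q * t⁻¹) * g := by group
          _ = t⁻¹ * (g * q * g⁻¹) * g := by rw [h1]
          _ = t⁻¹ * g * q := by group
      refine ⟨_, conjT_mem_gammaZ h hz, ?_⟩
      have hc := Cl.conj h hWT hgS (φ := (P.subtype.comp (b : MulAut P).toMonoidHom).comp
        (Subgroup.inclusion (inf_le_left : W ≤ P))) fun x => hgx _
      have e : conjT h g hgS = conjT h t (h.closed.1 ht) * conjT h (t⁻¹ * g) hz.1 := by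
        rw [← conjT_mul h (h.closed.1 ht) hz.1]
        congr 1
        rw [mul_inv_cancel_left]
      rw [e, map_mul, mk_conjT_of_mem h ht, one_mul] at hc
      exact hc
    · -- elements of order prime to `p`
      obtain ⟨hbF, m, hm, hbm⟩ := haN hb
      refine ⟨hbF, 1, one_mem _, ?_⟩
      obtain ⟨bW, hbW, hbbW⟩ := exists_autAgree (A := W) hbF hPS inf_le_left fun x hx hxW =>
        ⟨(b ⟨x, hx⟩).2, stronglyClosed_apply h.closed ((mem_autGroup_iff F hPS).mp hbF) ⟨x, hx⟩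
          hxW.2⟩
      have hWm : Agree bW m := fun x hW hR' => (hbbW x hW.1 hW).symm.trans (hbm x hW.1 hR')
      have hWN : W ≤ Subgroup.normalizer (R : Set Ω) := fun v hv =>
        (normL_le_normalizerIn S R A (hPV hv.1)).2
      obtain ⟨k, hk, hkm⟩ := exists_up h hR hn hRW hWT hWN hm
        (Nat.Coprime.coprime_dvd_left (orderOf_dvd_of_agree hbm hRP) hord) fun v hv hvN => by
          refine mem_autInducedBy_iff.mpr ⟨(bW ⟨v, hv⟩ : W), (bW ⟨v, hv⟩).2, fun x => ?_⟩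
          obtain ⟨x, rfl⟩ := m.surjective x
          show ((m (conjAut R v hvN (m⁻¹ (m x))) : R) : Ω) = _
          rw [MulAut.inv_apply_self, ← hWm _ (hRW (conjAut R v hvN x).2) (conjAut R v hvN x).2,
            ← hWm x (hRW x.2) x.2,
            show (⟨(conjAut R v hvN x : Ω), hRW (conjAut R v hvN x).2⟩ : W) =
              ⟨v, hv⟩ * ⟨x, hRW x.2⟩ * ⟨v, hv⟩⁻¹ from rfl, map_mul, map_mul, map_inv]
          rfl
      have hfix : ∀ x : W, (x : Ω) ∈ R → (k⁻¹ * bW : MulAut W) x = x := fun x hx => by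
        rw [MulAut.mul_apply, show bW x = k x from
          Subtype.ext ((hWm x x.2 hx).trans (hkm x x.2 hx).symm), MulAut.inv_apply_self]
      haveI := finite_of_le h.closed.1
      obtain ⟨n, hn'⟩ := exists_pow_eq_one_of_fix (S := T₁ ⊓ T₂) (p := p)
        (isPGroup_of_le h.pgroup h.closed.1) hWT hRW hWN
        (fun y hy => hR.2 R (isConj_refl F hn.1) ⟨hWT hy.1, hy.2⟩) (k⁻¹ * bW) hfix
      have hWS : W ≤ S := inf_le_left.trans hPS
      haveI := finite_autGroup F hWS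
      let H : Subgroup (F.autGroup W) := (aGroup F E₁ E₂ p W).subgroupOf (F.autGroup W)
      haveI : H.Normal := ⟨fun y hy g => Subgroup.mem_subgroupOf.mpr
        (conj_mem_aGroup hWS g.2 (Subgroup.mem_subgroupOf.mp hy))⟩
      have hkF : k ∈ F.autGroup W := aGroup_le_autGroup h.inv₁.2.1.1 hk
      set θ : F.autGroup W := ⟨k, hkF⟩⁻¹ * ⟨bW, hbW⟩ with hθ
      have hθn : θ ^ orderOf b ∈ H := by
        rw [← QuotientGroup.eq_one_iff, QuotientGroup.mk_pow, hθ, QuotientGroup.mk_mul,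
          (QuotientGroup.eq_one_iff _).mpr (show (⟨k, hkF⟩⁻¹ : F.autGroup W) ∈ H from
            inv_mem (Subgroup.mem_subgroupOf.mpr hk)), one_mul, ← QuotientGroup.mk_pow]
        refine (QuotientGroup.eq_one_iff _).mpr ?_
        rw [show (⟨bW, hbW⟩ : F.autGroup W) ^ orderOf b = 1 from Subtype.ext
          (orderOf_dvd_iff_pow_eq_one.mp (orderOf_dvd_of_agree hbbW inf_le_left))]
        exact one_mem _
      have hθk : θ ^ p ^ n = 1 := Subtype.ext (by simpa [hθ] using hn')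
      have hmem : bW ∈ aGroup F E₁ E₂ p W := by
        have := mul_mem hk (Subgroup.mem_subgroupOf.mp (mem_of_pow_mem_of_coprime hθk hord hθn))
        simpa [hθ] using this
      exact (Cl.of_aGroup h hWc hmem).congr fun x => hbbW x x.2.1 x.2

/-- A map on `W ≤ N_T(R)` acting on `R` as a member of `Aut_D(R)` has a class from `C_S(R)`. -/
theorem exists_class_of_aGroup {W : Subgroup Ω} (hRW : R ≤ W)
    (hW : W ≤ normalizerIn (T₁ ⊓ T₂) R) {φ : W →* Ω} (hφ : φ ∈ F.Hom W) {m : MulAut R}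
    (hm : m ∈ aGroup F E₁ E₂ p R) (hφm : ∀ r : R, φ ⟨r, hRW r.2⟩ = ((m r : R) : Ω)) :
    ∃ c ∈ gammaZ h R, Cl h W φ c := by
  have hWT : W ≤ T₁ ⊓ T₂ := hW.trans (normalizerIn_le _ R)
  have hmap : (R.subgroupOf W).map φ = R := map_eq_of_apply hRW hφm
  have hφ' : φ ∈ (linkSys h hn hR).Hom W := by
    refine ⟨hφ, hW.trans (normalizerIn_le_normL h hn hR), fun x =>
      normalizerIn_le_normL h hn hR ⟨stronglyClosed_apply h.closed hφ x (hWT x.2),
        (apply_mem_normalizerIn hφ hRW hmap x (hW x.2).2).2⟩,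
      φ.comp (Subgroup.inclusion (sup_le le_rfl hRW)), restrict_mem hφ _, fun x => rfl, m, hm,
      fun q => hφm q⟩
  obtain ⟨c, hc, hcl⟩ := exists_class_linkSys h hn hR hφ' hRW
  exact ⟨c, hc, hcl.restrict (le_inf le_rfl hWT) fun _ => rfl⟩

end CfsgLib.FusionBasics.Meet
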