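import Cfsg.Agent.Lib.FusionBasics.Meet.Saturated

/-!
The meet of two normal subsystems is normal in all three systems and is the largest such subsystem.
-/

set_option autoImplicit false
set_option linter.style.haveILetI false
set_option linter.unusedSectionVars false
set_option maxHeartbeats 800000

namespace CfsgLib.FusionBasics.Meet

open Cfsg Cfsg.FusionSystem CfsgLib.Alperin CfsgLib.FusionBasics CfsgLib.FusionSub

universe u

variable {Ω : Type u} [Group Ω] {S T T' T₁ T₂ : Subgroup Ω} [Finite S] {p : ℕ} [Fact p.Prime]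
  {F : FusionSystem S} {E₁ : FusionSystem T₁} {E₂ : FusionSystem T₂}

/-- `T`-centricity in an invariant subsystem gives it in the whole system. -/
theorem TCentric.of_invariant {E : FusionSystem T'} (hT : F.StronglyClosed T)
    (hE : E.IsInvariantIn F) (hTT : T ≤ T') {Q : Subgroup Ω} (h : TCentric E T Q) :
    TCentric F T Q := by
  refine ⟨h.1, ?_⟩
  rintro Q' ⟨φ, hφ, rfl⟩
  obtain ⟨a, ha, ε, hε, hx⟩ := hE.2.2.2 Q (h.1.trans hTT) φ hφ
  have haF : InHom F a := (inHom_aut hE.2.1.1).mpr ha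
  intro y hy
  set w := a.symm ⟨y, hTT hy.1⟩ with hw
  have haw : ((a w : T') : Ω) = y := congrArg Subtype.val (a.apply_symm_apply _)
  have hwT : (w : Ω) ∈ T := (InHom.mem_iff hT haF w).mpr (haw.symm ▸ hy.1)
  have hwC : (w : Ω) ∈ centralizerIn T ε.range := by
    refine ⟨hwT, ?_⟩
    rintro _ ⟨x, rfl⟩
    have h1 : a (⟨ε x, apply_mem hε x⟩ * w) = a (w * ⟨ε x, apply_mem hε x⟩) := by
      refine Subtype.ext ?_
      rw [map_mul, map_mul, Subgroup.coe_mul, Subgroup.coe_mul, haw, ← hx]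
      exact hy.2 _ ⟨x, rfl⟩
    exact congrArg Subtype.val (a.injective h1)
  obtain ⟨x, hxw⟩ := h.2 _ ⟨ε, hε, rfl⟩ hwC
  refine ⟨x, ?_⟩
  rw [hx x (apply_mem hε x), ← haw]
  exact congrArg (fun z : T' => ((a z : T') : Ω)) (Subtype.ext hxw)

/-- The automorphisms of `X` trivial modulo `T`. -/
def dispGroup (T X : Subgroup Ω) : Subgroup (MulAut X) where
  carrier := {f | ∀ x : X, (x : Ω)⁻¹ * (f x : X) ∈ T}
  one_mem' := fun x => by simp
  mul_mem' := by
    intro f g hf hg x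
    have := T.mul_mem (hg x) (hf (g x))
    rw [mul_assoc, mul_inv_cancel_left] at this
    exact this
  inv_mem' := by
    intro f hf x
    have := T.inv_mem (hf (f⁻¹ x))
    rw [MulAut.apply_inv_self, mul_inv_rev, inv_inv] at this
    exact this

/-- An element of a finite group of order prime to `p` congruent modulo a normal subgroup to a
`p`-element lies in the subgroup. -/
theorem mem_of_inv_mul_pow {G : Type*} [Group G] {H A : Subgroup G}
    (hn : ∀ a ∈ A, ∀ x ∈ H, a * x * a⁻¹ ∈ H) {e b : G} (he : e ∈ H) (heA : e ∈ A) (hb : b ∈ A)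
    {k : ℕ} (hk : (e⁻¹ * b) ^ p ^ k = 1) (hord : (orderOf b).Coprime p) : b ∈ H := by
  let H' : Subgroup A := H.subgroupOf A
  haveI : H'.Normal := ⟨fun x hx a => Subgroup.mem_subgroupOf.mpr
    (hn a a.2 x (Subgroup.mem_subgroupOf.mp hx))⟩
  set θ : A := ⟨e, heA⟩⁻¹ * ⟨b, hb⟩ with hθ
  have hθn : θ ^ orderOf b ∈ H' := by
    rw [← QuotientGroup.eq_one_iff, QuotientGroup.mk_pow, hθ, QuotientGroup.mk_mul,
      (QuotientGroup.eq_one_iff _).mpr (show (⟨e, heA⟩⁻¹ : A) ∈ H' from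
        inv_mem (Subgroup.mem_subgroupOf.mpr he)), one_mul, ← QuotientGroup.mk_pow,
      show (⟨b, hb⟩ : A) ^ orderOf b = 1 from Subtype.ext (pow_orderOf_eq_one b)]
    rfl
  have := H.mul_mem he (Subgroup.mem_subgroupOf.mp
    (mem_of_pow_mem_of_coprime (Subtype.ext (by simpa [hθ] using hk) : θ ^ p ^ k = 1) hord hθn))
  simpa [hθ] using this

variable (h : MeetData F E₁ E₂ p)
include h

/-- The Frattini condition inside an invariant saturated subsystem containing the meet. -/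
theorem meet_decomp_sub {E : FusionSystem T'} (hE : E.IsInvariantIn F) (hEs : E.IsSaturated p)
    (hTT : T₁ ⊓ T₂ ≤ T') (hle : ∀ P : Subgroup Ω, (meetSystem h).Hom P ⊆ E.Hom P) :
    InvCond (meetSystem h) E ∧ ∀ (P : Subgroup Ω), P ≤ T₁ ⊓ T₂ → ∀ φ : P →* Ω, φ ∈ E.Hom P →
      Decomp (meetSystem h) E P φ := by
  have hTE : E.StronglyClosed (T₁ ⊓ T₂) :=
    ⟨hTT, fun R hR φ hφ x => h.closed.2 R hR φ (hE.1 R hφ) x⟩
  have hAut : ∀ Q : Subgroup Ω, Q ≤ T' → E.autGroup Q ≤ F.autGroup Q := fun Q hQ a ha =>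
    (mem_autGroup_iff F (hQ.trans hE.2.1.1)).mpr (hE.1 Q ((mem_autGroup_iff E hQ).mp ha))
  have hinv : InvCond (meetSystem h) E := fun P hP φ hφ α hα =>
    meetSystem_invCond h P hP φ hφ α (hAut _ hTT hα)
  refine ⟨hinv, ?_⟩
  have hT := hTE
  haveI := finite_of_le h.closed.1
  haveI := finite_of_le hE.2.1.1
  have hT'p := isPGroup_of_le h.pgroup hE.2.1.1
  have hTp := isPGroup_of_le h.pgroup h.closed.1
  refine frattini_of_aut hT'p hEs hinv hT fun Q hQT hQn big α hα => ?_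
  rcases hQT.eq_or_lt with heq | hlt
  · subst heq
    exact ⟨α, hα, (T₁ ⊓ T₂).subtype, incl_mem _ le_rfl, fun _ _ => rfl⟩
  by_cases hC : centralizerIn (T₁ ⊓ T₂) Q ≤ Q
  · have hQc : TCentric F (T₁ ⊓ T₂) Q := TCentric.of_invariant h.closed hE hTT
      (tCentric_of_fullyCentralized hT'p hEs hT hQT
        (centralized_automized_of_fullyNormalized hT'p hEs hQn).1 hC)
    obtain ⟨κ, hκ, χ, -, hαχ, R, hQR, ψ, hRN, hψ, hψx, hbigR⟩ :=
      frattini_extend hT'p hEs hQn (aGroup F E₁ E₂ p Q)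
        (fun a ha b hb => conj_mem_aGroup (hQT.trans h.closed.1) (hAut _ hQn.1 ha) hb) hα
    have hN : normalizerIn (T₁ ⊓ T₂) Q ≤ R := fun g hg => hbigR g (hTT hg.1) hg.2
      (autInducedBy_le_aGroup (hQT.trans h.closed.1) (conjAut_mem hg.1 hg.2))
    have h1 := big _ (normalizerIn_le _ Q)
      (card_lt_card (S := T₁ ⊓ T₂) (normalizerIn_le _ Q)
        (CfsgLib.FusionSub.lt_normalizerIn hTp hlt)) _ (restrict_mem hψ hN)
    have hχ : Q.subtype.comp χ.toMonoidHom ∈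
        (frattiniSystem (meetSystem h) E hinv).Hom Q :=
      restrict_mem_apply h1 (le_normalizerIn hQT) fun x => (hψx x).symm
    have hκ' := mem_frattiniSystem_of_mem hinv
      ((mem_autGroup_iff _ hQT).mp (aGroup_le_meetSystem h hQc hκ.1))
    exact comp_mem_apply hχ hκ' (fun x => (χ x).2) fun x => by rw [hαχ]; rfl
  · have hα' := (mem_autGroup_iff E hQn.1).mp hα
    obtain ⟨ψ, hψ, hext⟩ := (receptive_of_fullyNormalized hT'p hEs hQn).2 Q _ hα'
      (range_subtype_comp_aut _)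
    set W := Q ⊔ centralizerIn (T₁ ⊓ T₂) Q
    have hle' : W ≤ extender T' Q (Q.subtype.comp α.toMonoidHom) :=
      sup_le (le_extender hα') fun c hc => centralizerIn_le_extender _ _ ⟨hTT hc.1, hc.2⟩
    have hW : W ≤ T₁ ⊓ T₂ := sup_le hQT (centralizerIn_le _ Q)
    have h1 := big W hW (card_lt_card (S := T₁ ⊓ T₂) hW
      (lt_of_le_of_ne le_sup_left fun e => hC (le_sup_right.trans e.ge))) _ (restrict_mem hψ hle')
    exact restrict_mem_apply h1 le_sup_left fun x => (hext x x.2 _).symm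

/-- The extendable automorphisms of `T`. -/
def extGroup : Subgroup (MulAut ↥(T₁ ⊓ T₂)) where
  carrier := {α | ∃ ψ ∈ F.autGroup (xset S (T₁ ⊓ T₂)), Agree ψ α ∧
    ψ ∈ dispGroup (T₁ ⊓ T₂) (xset S (T₁ ⊓ T₂)) ∧ RestrictsIn E₁ ψ ∧ RestrictsIn E₂ ψ}
  one_mem' := ⟨1, one_mem _, agree_one, one_mem _, RestrictsIn.one _, RestrictsIn.one _⟩
  mul_mem' := by
    rintro a b ⟨f, hf, hfa, hfd, hf1, hf2⟩ ⟨g, hg, hgb, hgd, hg1, hg2⟩
    exact ⟨f * g, mul_mem hf hg, hfa.mul hgb, mul_mem hfd hgd, hf1.mul hg1, hf2.mul hg2⟩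
  inv_mem' := by
    rintro a ⟨f, hf, hfa, hfd, hf1, hf2⟩
    exact ⟨f⁻¹, Subgroup.inv_mem _ hf, hfa.inv (le_xset _ _), Subgroup.inv_mem _ hfd, hf1.inv,
      hf2.inv⟩

theorem top_fullyNormalized : F.IsFullyNormalized (T₁ ⊓ T₂) := by
  refine ⟨h.closed.1, fun Q hQ => ?_⟩
  haveI := finite_of_le (normalizerIn_le S (T₁ ⊓ T₂))
  refine Subgroup.card_le_of_le fun g hg => ⟨hg.1, stronglyClosed_le_normalizer h.closed hg.1⟩

theorem eq_top_of_iso {Q : Subgroup Ω} {e : ↥(T₁ ⊓ T₂) ≃* Q} (he : InHom F e) : Q = T₁ ⊓ T₂ := by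
  haveI := finite_of_le h.closed.1
  refine Subgroup.eq_of_le_of_card_ge (fun y hy => ?_) (Nat.card_congr e.toEquiv).le
  obtain ⟨x, hx⟩ := e.surjective ⟨y, hy⟩
  have := stronglyClosed_apply h.closed he x x.2
  exact (show (Q.subtype.comp e.toMonoidHom) x = y from congrArg Subtype.val hx) ▸ this

theorem aGroup_top_le_extGroup : aGroup F E₁ E₂ p (T₁ ⊓ T₂) ≤ extGroup (F := F) (E₁ := E₁) (E₂ := E₂) := by
  set T := T₁ ⊓ T₂ with hT
  refine (Subgroup.closure_le _).mpr ?_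
  rintro β ⟨Q', e, he, hcase⟩
  obtain rfl := eq_top_of_iso h he
  have hTn := top_fullyNormalized h
  have hTc := (centralized_automized_of_fullyNormalized h.pgroup h.saturated hTn).1
  rcases hcase with ⟨-, -, hg⟩ | ⟨t, ht, htx⟩
  · have hg' := hg.congr h.pgroup h.saturated h.inv₁ h.inv₂ hTc hTc he.symm
    rw [congr_congr, MulEquiv.self_trans_symm] at hg'
    obtain ⟨ψ, hψ, hψβ, hd, h1, h2⟩ := hg'
    exact ⟨ψ, hψ, hψβ, hd, h1, h2⟩
  · set s : T := e.symm ⟨t, ht⟩ with hs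
    have hsN : (s : Ω) ∈ Subgroup.normalizer ((xset S T : Subgroup Ω) : Set Ω) :=
      (normalizerIn_le_xset F h.closed.1
        ⟨h.closed.1 s.2, Subgroup.le_normalizer s.2⟩).2
    set ψ := conjAut (xset S T) (s : Ω) hsN
    have hX : xset S T ≤ S := xset_le h.closed.1
    have h1 := conj_mem_relGroup h.inv₁ hX (f := ψ) s.2.1 fun x => rfl
    have h2 := conj_mem_relGroup h.inv₂ hX (f := ψ) s.2.2 fun x => rfl
    refine ⟨ψ, autInducedBy_le_autGroup F hX (conjAut_mem (h.closed.1 s.2) hsN), ?_,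
      fun x => ⟨h1.2 x, h2.2 x⟩, h1.1, h2.1⟩
    intro x hX' hT'
    show (s : Ω) * x * (s : Ω)⁻¹ = _
    have key : β ⟨x, hT'⟩ = s * ⟨x, hT'⟩ * s⁻¹ := by
      apply e.injective
      rw [map_mul, map_mul, map_inv, hs, MulEquiv.apply_symm_apply]
      refine Subtype.ext ?_
      rw [← congr_apply_coe, htx]
      rfl
    rw [key]
    rfl

theorem meetSystem_isNormalIn : (meetSystem h).IsNormalIn F p := by
  refine ⟨⟨meetSystem_isSaturated h, h.saturated, meetSystem_isInvariantIn h⟩, fun α hα => ?_⟩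
  rw [meet_autGroup_top h] at hα
  obtain ⟨ψ, hψ, hψα, hd, -, -⟩ := aGroup_top_le_extGroup h hα
  refine ⟨ψ, hψ, fun x => hψα x _ x.2, fun c hc => ⟨hd c, fun y hy => ?_⟩⟩
  obtain ⟨x, hx⟩ := α.surjective ⟨y, hy⟩
  have e1 : ((ψ ⟨x, le_xset S _ x.2⟩ : xset S (T₁ ⊓ T₂)) : Ω) = y :=
    (hψα x _ x.2).trans (congrArg Subtype.val hx)
  let c' : xset S (T₁ ⊓ T₂) := ⟨(c : Ω), c.2⟩
  have h1 : y * ((ψ c' : xset S (T₁ ⊓ T₂)) : Ω) = (ψ c' : xset S (T₁ ⊓ T₂)) * y := by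
    rw [← e1, ← Subgroup.coe_mul, ← Subgroup.coe_mul, ← map_mul, ← map_mul]
    exact congrArg (fun z : xset S (T₁ ⊓ T₂) => ((ψ z : _) : Ω))
      (Subtype.ext (hc.2 x x.2))
  have h2 : y * (c : Ω)⁻¹ = (c : Ω)⁻¹ * y := Subgroup.inv_mem _ hc.2 y hy
  show y * ((c : Ω)⁻¹ * (ψ c' : xset S (T₁ ⊓ T₂))) = (c : Ω)⁻¹ * (ψ c' : xset S (T₁ ⊓ T₂)) * y
  calc y * ((c : Ω)⁻¹ * (ψ c' : xset S (T₁ ⊓ T₂))) = (y * (c : Ω)⁻¹) * (ψ c' : _) := by group
    _ = (c : Ω)⁻¹ * (y * (ψ c' : xset S (T₁ ⊓ T₂))) := by rw [h2]; group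
    _ = (c : Ω)⁻¹ * (ψ c' : xset S (T₁ ⊓ T₂)) * y := by rw [h1]; group

theorem meetSystem_isNormalIn_sub {E : FusionSystem T'} (hE : E.IsNormalIn F p)
    (hTT : T₁ ⊓ T₂ ≤ T') (hle : ∀ P : Subgroup Ω, (meetSystem h).Hom P ⊆ E.Hom P)
    (hext : ∀ ψ : MulAut (xset S (T₁ ⊓ T₂)), RestrictsIn E₁ ψ → RestrictsIn E₂ ψ →
      RestrictsIn E ψ) : (meetSystem h).IsNormalIn E p := by
  obtain ⟨hinv, hfrat⟩ := meet_decomp_sub h hE.1.2.2 hE.1.1 hTT hle
  have hT' := hE.1.2.2.2.1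
  refine ⟨⟨meetSystem_isSaturated h, hE.1.1,
    ⟨hle, ⟨hTT, fun R hR φ hφ x => h.closed.2 R hR φ (hE.1.2.2.1 R hφ) x⟩, hinv, hfrat⟩⟩,
    fun α hα => ?_⟩
  obtain ⟨β, hβ, hβT, hβC⟩ := (meetSystem_isNormalIn h).2 α hα
  rw [meet_autGroup_top h] at hα
  obtain ⟨ψ, hψ, hψα, hd, h1, h2⟩ := aGroup_top_le_extGroup h hα
  obtain ⟨a, ha, hψa⟩ := hext ψ h1 h2
  let T := T₁ ⊓ T₂
  have hY : T ⊔ centralizerIn T' T = xset S T ⊓ T' := by
    refine le_antisymm (sup_le (le_inf (le_xset S T) hTT) fun c hc =>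
      ⟨centralizerIn_le_xset S T ⟨hT'.1 hc.1, hc.2⟩, hc.1⟩) ?_
    rintro x ⟨hx, hxT'⟩
    have hx' : x ∈ T ⊔ centralizerIn S T := hx
    rw [← SetLike.mem_coe, Subgroup.coe_mul_of_right_le_normalizer_left _ _
      (fun c hc => (centralizerIn_le_normalizerIn S T hc).2)] at hx'
    obtain ⟨t, ht, c, hc, rfl⟩ := hx'
    refine Subgroup.mul_mem_sup ht ⟨?_, hc.2⟩
    simpa using T'.mul_mem (T'.inv_mem (hTT ht)) hxT'
  haveI := finite_of_le hT'.1
  obtain ⟨a', ha', haa'⟩ := exists_autAgree (A := T ⊔ centralizerIn T' T) ha inf_le_right hY.le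
    fun x hx hxA => hY.ge (a ⟨x, hx⟩).2
  have key : ∀ (x : ↥(T ⊔ centralizerIn T' T)) (hx : (x : Ω) ∈ xset S T),
      ((a' x : ↥(T ⊔ centralizerIn T' T)) : Ω) = ((ψ ⟨x, hx⟩ : xset S T) : Ω) := fun x hx =>
    (haa' x (hY.le x.2) x.2).symm.trans (hψa x hx (hY.le x.2)).symm
  refine ⟨a', ha', fun x => (key _ (le_xset S T x.2)).trans (hψα x _ x.2), fun c hc => ?_⟩
  have hcS : (c : Ω) ∈ centralizerIn S T := ⟨hT'.1 hc.1, hc.2⟩
  rw [key c (centralizerIn_le_xset S T hcS)]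
  refine ⟨hd ⟨(c : Ω), centralizerIn_le_xset S T hcS⟩, fun y hy => ?_⟩
  obtain ⟨x, hx⟩ := α.surjective ⟨y, hy⟩
  have e1 : ((ψ ⟨x, le_xset S _ x.2⟩ : xset S T) : Ω) = y :=
    (hψα x _ x.2).trans (congrArg Subtype.val hx)
  set c' : xset S T := ⟨c, centralizerIn_le_xset S T hcS⟩
  have h1 : y * ((ψ c' : xset S T) : Ω) = (ψ c' : xset S T) * y := by
    rw [← e1, ← Subgroup.coe_mul, ← Subgroup.coe_mul, ← map_mul, ← map_mul]
    exact congrArg (fun z : xset S T => ((ψ z : _) : Ω)) (Subtype.ext (hc.2 x x.2))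
  have h2 : y * (c : Ω)⁻¹ = (c : Ω)⁻¹ * y := Subgroup.inv_mem _ hc.2 y hy
  calc y * ((c : Ω)⁻¹ * (ψ c' : xset S T)) = (y * (c : Ω)⁻¹) * (ψ c' : _) := by group
    _ = (c : Ω)⁻¹ * (y * (ψ c' : xset S T)) := by rw [h2]; group
    _ = (c : Ω)⁻¹ * (ψ c' : xset S T) * y := by rw [h1]; group

/-- An automorphism of order prime to `p` of a normal subsystem over `T` restricts into `Aut_E`. -/
theorem restrictsIn_of_normal {E : FusionSystem T'} (hE : E.IsInvariantIn F)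
    (hTT : T₁ ⊓ T₂ ≤ T') {D' : FusionSystem (T₁ ⊓ T₂)} (hD' : D'.IsNormalIn E p)
    {α : MulAut ↥(T₁ ⊓ T₂)} (hα : α ∈ D'.autGroup (T₁ ⊓ T₂))
    {ψ : MulAut (xset S (T₁ ⊓ T₂))} (hψ : ψ ∈ F.autGroup _) (hψα : Agree ψ α)
    (hd : ψ ∈ dispGroup (T₁ ⊓ T₂) (xset S (T₁ ⊓ T₂))) (hord : (orderOf ψ).Coprime p) :
    RestrictsIn E ψ := by
  let T := T₁ ⊓ T₂
  have hT' := hE.2.1
  have hX : xset S T ≤ S := xset_le h.closed.1
  set W := xset S T ⊓ T' with hW
  have hWS : W ≤ S := inf_le_left.trans hX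
  obtain ⟨b, hb, hψb⟩ := exists_autAgree (A := W) hψ hX inf_le_left fun x hx hxW =>
    ⟨(ψ ⟨x, hx⟩).2, ((InHom.mem_iff hT' ((inHom_aut hX).mpr hψ)) ⟨x, hx⟩).mp hxW.2⟩
  obtain ⟨β, hβ, hβT, hβC⟩ := hD'.2 α hα
  have hY : T ⊔ centralizerIn T' T ≤ W := sup_le (le_inf (le_xset S T) hTT) fun c hc =>
    ⟨centralizerIn_le_xset S T ⟨hT'.1 hc.1, hc.2⟩, hc.1⟩
  have hY' : W ≤ T ⊔ centralizerIn T' T := by
    rintro x ⟨hx, hxT'⟩
    have hx' : x ∈ T ⊔ centralizerIn S T := hx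
    rw [← SetLike.mem_coe, Subgroup.coe_mul_of_right_le_normalizer_left _ _
      (fun c hc => (centralizerIn_le_normalizerIn S T hc).2)] at hx'
    obtain ⟨t, ht, c, hc, rfl⟩ := hx'
    refine Subgroup.mul_mem_sup ht ⟨?_, hc.2⟩
    simpa using T'.mul_mem (T'.inv_mem (hTT ht)) hxT'
  haveI := finite_of_le hT'.1
  obtain ⟨e, he, hβe⟩ := exists_autAgree (A := W) hβ
    (sup_le hTT (centralizerIn_le T' T)) hY' fun x hx hxW => hY (β ⟨x, hx⟩).2
  have heF : e ∈ F.autGroup W :=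
    (mem_autGroup_iff F hWS).mpr (hE.1 W ((mem_autGroup_iff E inf_le_right).mp he))
  haveI := finite_of_le hWS
  have heT : ∀ x : W, (x : Ω) ∈ T → e x = b x := fun x hx => Subtype.ext (by
    rw [← hψb x x.2.1 x.2, hψα x x.2.1 hx, ← hβe x (hY' x.2) x.2]
    exact hβT ⟨x, hx⟩)
  have hbd : b ∈ dispGroup T W := fun x => by
    rw [← hψb x x.2.1 x.2]
    exact hd ⟨x, x.2.1⟩
  have hed : e ∈ dispGroup T W := by
    let M : Subgroup W :=
      { carrier := {x | (x : Ω)⁻¹ * (e x : W) ∈ T}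
        one_mem' := by simp
        mul_mem' := fun {x y} hx hy => by
          show ((x * y : W) : Ω)⁻¹ * ((e (x * y) : W) : Ω) ∈ T
          rw [map_mul, show ((x * y : W) : Ω)⁻¹ * ((e x * e y : W) : Ω) =
            ((y : Ω)⁻¹ * ((x : Ω)⁻¹ * (e x : W)) * (y : Ω)⁻¹⁻¹) * ((y : Ω)⁻¹ * (e y : W)) by
              rw [Subgroup.coe_mul, Subgroup.coe_mul]; group]
          exact Subgroup.mul_mem _ (stronglyClosed_conj h.closed (S.inv_mem (hWS y.2)) hx) hy
        inv_mem' := fun {x} hx => by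
          show ((x⁻¹ : W) : Ω)⁻¹ * ((e x⁻¹ : W) : Ω) ∈ T
          rw [map_inv, show ((x⁻¹ : W) : Ω)⁻¹ * (((e x)⁻¹ : W) : Ω) =
            (x : Ω) * ((x : Ω)⁻¹ * (e x : W))⁻¹ * (x : Ω)⁻¹ by
              rw [Subgroup.coe_inv, Subgroup.coe_inv]; group]
          exact stronglyClosed_conj h.closed (hWS x.2) (Subgroup.inv_mem _ hx) }
    intro x
    have hM : T ⊔ centralizerIn T' T ≤ M.map W.subtype := by
      refine sup_le (fun y hy => ⟨⟨y, hY (Subgroup.mem_sup_left hy)⟩, ?_, rfl⟩)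
        (fun y hy => ⟨⟨y, hY (Subgroup.mem_sup_right hy)⟩, ?_, rfl⟩)
      · refine Subgroup.mul_mem _ (Subgroup.inv_mem _ hy) ?_
        rw [← hβe y (Subgroup.mem_sup_left hy)]
        exact (hβT ⟨y, hy⟩).symm ▸ (α _).2
      · show y⁻¹ * _ ∈ T
        rw [← hβe y (Subgroup.mem_sup_right hy)]
        exact (hβC ⟨y, Subgroup.mem_sup_right hy⟩ hy).1
    obtain ⟨w, hw, hwx⟩ := hM (hY' x.2)
    exact (Subtype.ext hwx : w = x) ▸ hw
  set θ := e⁻¹ * b with hθ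
  have hθfix : ∀ x : W, (x : Ω) ∈ T → θ x = x := fun x hx => by
    rw [hθ, MulAut.mul_apply, ← heT x hx, MulAut.inv_apply_self]
  have hθd : θ ∈ dispGroup T W := Subgroup.mul_mem _ (Subgroup.inv_mem _ hed) hbd
  haveI := finite_of_le h.closed.1
  obtain ⟨k, hk⟩ := IsPGroup.iff_card.mp (isPGroup_of_le h.pgroup h.closed.1)
  have hθk : θ ^ p ^ k = 1 := by
    refine MulEquiv.ext fun x => ?_
    have hz : ((x : Ω)⁻¹ * (θ x : W)) ∈ T := hθd x
    set z : W := x⁻¹ * θ x with hz'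
    have hzT : (z : Ω) ∈ T := hz
    have hpow : ∀ n : ℕ, (θ ^ n) x = x * z ^ n := by
      intro n
      induction n with
      | zero => simp
      | succ n ih =>
        rw [pow_succ', MulAut.mul_apply, ih, map_mul, map_pow, hθfix z hzT, pow_succ', ← mul_assoc]
        rw [hz', mul_inv_cancel_left]
    have hzk : z ^ p ^ k = 1 := Subtype.ext (by
      have := pow_card_eq_one' (x := (⟨(z : Ω), hzT⟩ : T))
      rw [hk] at this
      have h2 := congrArg Subtype.val this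
      simpa using h2)
    rw [hpow, hzk, mul_one]
    rfl
  refine ⟨b, mem_of_inv_mul_pow (H := E.autGroup W) (A := F.autGroup W)
    (fun a ha y hy => conj_mem_sub hE inf_le_right ha hy) he heF hb hθk ?_, hψb⟩
  exact Nat.Coprime.coprime_dvd_left (orderOf_dvd_of_agree hψb inf_le_left) hord

/-- The meet contains every subsystem over `T` normal in the three systems. -/
theorem le_meetSystem {D' : FusionSystem (T₁ ⊓ T₂)} (hF : D'.IsNormalIn F p)
    (h₁ : D'.IsNormalIn E₁ p) (h₂ : D'.IsNormalIn E₂ p) : D'.IsSubsystemOf (meetSystem h) := by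
  let T := T₁ ⊓ T₂
  haveI := finite_of_le h.closed.1
  have hTp := isPGroup_of_le h.pgroup h.closed.1
  have hX : xset S T ≤ S := xset_le h.closed.1
  haveI := finite_of_le hX
  haveI := finite_mulAut (P := xset S T)
  refine hom_subset_of_normalized hTp hF.1.1 (fun P hP α hα κ hκ => ?_) ?_
  · refine conj_mem_sub (meetSystem_isInvariantIn h) hP ?_ hκ
    exact (mem_autGroup_iff F (hP.trans h.closed.1)).mpr
      (hF.1.2.2.1 P ((mem_autGroup_iff D' hP).mp hα))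
  refine autGroup_le_of_pPrime hTp hF.1.1 (isFullyNormalized_top D') ?_ fun α hα hord => ?_
  · rw [meet_autGroup_top h]
    exact autInducedBy_le_aGroup h.closed.1
  rw [meet_autGroup_top h]
  obtain ⟨β, hβ, hβT, hβC⟩ := hF.2 α hα
  change MulAut (xset S T) at β
  have hβd : β ∈ dispGroup T (xset S T) := by
    let M : Subgroup (xset S T) :=
      { carrier := {x | (x : Ω)⁻¹ * (β x : xset S T) ∈ T}
        one_mem' := by simp
        mul_mem' := fun {x y} hx hy => by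
          show ((x * y : xset S T) : Ω)⁻¹ * ((β (x * y) : xset S T) : Ω) ∈ T
          rw [map_mul, show ((x * y : xset S T) : Ω)⁻¹ * ((β x * β y : xset S T) : Ω) =
            ((y : Ω)⁻¹ * ((x : Ω)⁻¹ * (β x : xset S T)) * (y : Ω)⁻¹⁻¹) *
              ((y : Ω)⁻¹ * (β y : xset S T)) by
              rw [Subgroup.coe_mul, Subgroup.coe_mul]; group]
          exact Subgroup.mul_mem _ (stronglyClosed_conj h.closed (S.inv_mem (hX y.2)) hx) hy
        inv_mem' := fun {x} hx => by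
          show ((x⁻¹ : xset S T) : Ω)⁻¹ * ((β x⁻¹ : xset S T) : Ω) ∈ T
          rw [map_inv, show ((x⁻¹ : xset S T) : Ω)⁻¹ * (((β x)⁻¹ : xset S T) : Ω) =
            (x : Ω) * ((x : Ω)⁻¹ * (β x : xset S T))⁻¹ * (x : Ω)⁻¹ by
              rw [Subgroup.coe_inv, Subgroup.coe_inv]; group]
          exact stronglyClosed_conj h.closed (hX x.2) (Subgroup.inv_mem _ hx) }
    intro x
    have hM : xset S T ≤ M.map (xset S T).subtype := by
      refine sup_le (fun y hy => ⟨⟨y, le_xset S T hy⟩, ?_, rfl⟩)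
        (fun y hy => ⟨⟨y, centralizerIn_le_xset S T hy⟩, ?_, rfl⟩)
      · refine Subgroup.mul_mem _ (Subgroup.inv_mem _ hy) ?_
        exact (hβT ⟨y, hy⟩).symm ▸ (α _).2
      · exact (hβC ⟨y, centralizerIn_le_xset S T hy⟩ hy).1
    obtain ⟨w, hw, hwx⟩ := hM x.2
    exact (Subtype.ext hwx : w = x) ▸ hw
  have hβα : Agree β α := fun x hX' hT' => hβT ⟨x, hT'⟩
  obtain ⟨k, n, hkn, hn⟩ := CfsgLib.FusionExamples.exists_coprime_power (p := p) β
  obtain ⟨j, hj⟩ := exists_pow_eq_self_of_coprime (x := α) (hord.pow_right k).symm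
  set ψ := β ^ (p ^ k * j) with hψ
  have hψord : (orderOf ψ).Coprime p := by
    rw [hψ, pow_mul]
    exact Nat.Coprime.coprime_dvd_left
      ((orderOf_pow_dvd j).trans (orderOf_dvd_of_pow_eq_one hkn)) hn
  have hψα : Agree ψ α := by
    have := hβα.pow (p ^ k * j)
    rwa [pow_mul α, hj] at this
  have hψF : ψ ∈ F.autGroup (xset S T) := Subgroup.pow_mem _ hβ _
  have hψd : ψ ∈ dispGroup T (xset S T) := Subgroup.pow_mem _ hβd _
  refine Subgroup.subset_closure ⟨T, MulEquiv.refl T, inHom_refl F h.closed.1,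
    Or.inl ⟨top_fullyNormalized h, hord, ψ, hψF, hψα, hψd,
      restrictsIn_of_normal h h.inv₁ inf_le_left h₁ hα hψF hψα hψd hψord,
      restrictsIn_of_normal h h.inv₂ inf_le_right h₂ hα hψF hψα hψd hψord⟩⟩

omit h in
/-- The meet of two normal subsystems. -/
theorem exists_meet (hS : IsPGroup p S) (hF : F.IsSaturated p) (h₁ : E₁.IsNormalIn F p)
    (h₂ : E₂.IsNormalIn F p) : ∃ D : FusionSystem (T₁ ⊓ T₂),
      (D.IsNormalIn F p ∧ D.IsNormalIn E₁ p ∧ D.IsNormalIn E₂ p) ∧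
      ∀ D' : FusionSystem (T₁ ⊓ T₂), D'.IsNormalIn F p → D'.IsNormalIn E₁ p →
        D'.IsNormalIn E₂ p → D'.IsSubsystemOf D :=
  have h : MeetData F E₁ E₂ p := ⟨hS, hF, h₁, h₂⟩
  ⟨meetSystem h, ⟨meetSystem_isNormalIn h,
    meetSystem_isNormalIn_sub h h₁ inf_le_left (fun _ _ hφ => meetSystem_le_left h hφ)
      fun _ hψ _ => hψ,
    meetSystem_isNormalIn_sub h h₂ inf_le_right (fun _ _ hφ => meetSystem_le_right h hφ)
      fun _ _ hψ => hψ⟩, fun _ hF' h₁' h₂' => le_meetSystem h hF' h₁' h₂'⟩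

end CfsgLib.FusionBasics.Meet
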