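import Cfsg.Agent.Lib.FusionBasics.Meet.Transfer

/-!
The group generated by the Good automorphisms of a fully normalized `T`-centric subgroup has
`Aut_T` as a Sylow subgroup.
-/

set_option autoImplicit false
set_option linter.style.haveILetI false
set_option linter.unusedSectionVars false

namespace CfsgLib.FusionBasics.Meet

open Cfsg Cfsg.FusionSystem CfsgLib.Alperin CfsgLib.FusionBasics CfsgLib.FusionSub
  CfsgLib.FusionModels

universe u

variable {Ω : Type u} [Group Ω] {S T₁ T₂ : Subgroup Ω} [Finite S] {p : ℕ} [Fact p.Prime]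
  {F : FusionSystem S} {E₁ : FusionSystem T₁} {E₂ : FusionSystem T₂}

/-- An element with the same image as a given one and with order prime to `p`. -/
theorem exists_pPrime_lift {G H : Type*} [Group G] [Finite G] [Group H] (r : G →* H) (g : G)
    (hg : (orderOf (r g)).Coprime p) :
    ∃ c : ℕ, (orderOf (g ^ c)).Coprime p ∧ r (g ^ c) = r g := by
  obtain ⟨k, m, hkm, hm⟩ := CfsgLib.FusionExamples.exists_coprime_power (p := p) g
  obtain ⟨j, hj⟩ := exists_pow_eq_self_of_coprime (x := r g) (hg.pow_right k).symm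
  refine ⟨p ^ k * j, ?_, by rw [map_pow, pow_mul, hj]⟩
  rw [pow_mul]
  exact Nat.Coprime.coprime_dvd_left ((orderOf_pow_dvd j).trans (orderOf_dvd_of_pow_eq_one hkm)) hm

/-- The data of a local model at `Q C_S(Q)`. -/
structure ModelData (h : MeetData F E₁ E₂ p) (Q : Subgroup Ω) {L : Type*} [Group L]
    (ι : ↥(normalizerIn S (xset S Q)) →* L) (ρ : L →* MulAut (xset S Q)) : Prop where
  cent : TCentric F (T₁ ⊓ T₂) Q
  normalized : F.IsFullyNormalized Q
  model : IsLocalModel F p (xset S Q) (F.autGroup (xset S Q)) ι ρ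

theorem exists_modelData (h : MeetData F E₁ E₂ p) {Q : Subgroup Ω}
    (hQ : TCentric F (T₁ ⊓ T₂) Q) (hn : F.IsFullyNormalized Q) :
    ∃ (L : Type u) (_ : Group L) (ι : ↥(normalizerIn S (xset S Q)) →* L)
      (ρ : L →* MulAut (xset S Q)), ModelData h Q ι ρ := by
  obtain ⟨L, hL, ι, ρ, hM⟩ := exists_localModel h.pgroup h.saturated
    (xset_fullyNormalized h.pgroup h.saturated h.closed hQ hn)
    (xset_centric h.pgroup h.saturated h.closed hQ hn)
    (autInducedBy_le_autGroup F (xset_le hn.1)) le_rfl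
  exact ⟨L, hL, ι, ρ, hQ, hn, hM⟩

variable {h : MeetData F E₁ E₂ p} {Q : Subgroup Ω} {L : Type*} [Group L]
  {ι : ↥(normalizerIn S (xset S Q)) →* L} {ρ : L →* MulAut (xset S Q)}

namespace ModelData

variable (d : ModelData h Q ι ρ)
include d

theorem mem_stab (l : L) : ρ l ∈ stab (xset S Q) Q := by
  intro x
  have hX := xset_le d.normalized.1 (S := S)
  have hf := (inHom_aut hX).mpr (d.model.range_eq.le ⟨l, rfl⟩)
  have := hf.mem_iff h.closed x
  have e := xset_inf_eq h.closed d.cent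
  exact ⟨fun hx => e.le ⟨(ρ l x).2, this.mp (d.cent.1 hx)⟩,
    fun hx => e.le ⟨x.2, this.mpr (d.cent.1 hx)⟩⟩

/-- The action on `Q`. -/
def res : L →* MulAut Q :=
  (stabRes (le_xset S Q)).comp (ρ.codRestrict _ d.mem_stab)

theorem agree_res (l : L) : Agree (ρ l) (d.res l) := fun _ _ _ => rfl

theorem res_iota (m : ↥(normalizerIn S (xset S Q))) (q : Q) :
    ((d.res (ι m) q : Q) : Ω) = (m : Ω) * q * (m : Ω)⁻¹ := by
  show ((ρ (ι m) _ : xset S Q) : Ω) = _
  rw [d.model.map_iota]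
  rfl

theorem normalizer_eq : normalizerIn S (xset S Q) = normalizerIn S Q :=
  normalizerIn_xset h.closed d.cent

end ModelData

/-- Conjugation by an element of `T` is in the relative group of a subsystem over `T' ⊇ T`. -/
theorem conj_mem_relGroup {T' : Subgroup Ω} {E : FusionSystem T'} (hE : E.IsInvariantIn F)
    {X : Subgroup Ω} (hX : X ≤ S) {f : MulAut X} {t : Ω} (ht : t ∈ T')
    (hf : ∀ x : X, ((f x : X) : Ω) = t * x * t⁻¹) : f ∈ relGroup E X := by
  have hN : t ∈ Subgroup.normalizer ((X ⊓ T' : Subgroup Ω) : Set Ω) :=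
    mem_normalizer_inf (normalizer_of_induced hf) (Subgroup.le_normalizer ht)
  refine ⟨⟨conjAut _ t hN, autInducedBy_le_autGroup E inf_le_right (conjAut_mem ht hN),
    fun x hR hA => hf ⟨x, hR⟩⟩, fun x => ?_⟩
  rw [hf, show (x : Ω)⁻¹ * (t * x * t⁻¹) = ((x : Ω)⁻¹ * t * (x : Ω)⁻¹⁻¹) * t⁻¹ by group]
  exact T'.mul_mem (stronglyClosed_conj hE.2.1 (S.inv_mem (hX x.2)) ht) (T'.inv_mem ht)

/-- The subgroup generated by the `p'`-elements of the two model subgroups and conjugates of `T`. -/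
def kGen (E₁ : FusionSystem T₁) (E₂ : FusionSystem T₂) (p : ℕ)
    (ι : ↥(normalizerIn S (xset S Q)) →* L) (ρ : L →* MulAut (xset S Q)) : Set L :=
  {l | (ρ l ∈ relGroup E₁ (xset S Q) ∧ ρ l ∈ relGroup E₂ (xset S Q)) ∧
    ((orderOf l).Coprime p ∨ ∃ g : L, ∃ t : ↥(normalizerIn S (xset S Q)),
      (t : Ω) ∈ T₁ ⊓ T₂ ∧ l = g * ι t * g⁻¹)}

/-- The subgroup `K` of the model. -/
def kSub (E₁ : FusionSystem T₁) (E₂ : FusionSystem T₂) (p : ℕ)
    (ι : ↥(normalizerIn S (xset S Q)) →* L) (ρ : L →* MulAut (xset S Q)) : Subgroup L :=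
  Subgroup.closure (kGen E₁ E₂ p ι ρ)

namespace ModelData

variable (d : ModelData h Q ι ρ)
include d

theorem conj_mem_rel (l g : L) (hl : ρ l ∈ relGroup E₁ (xset S Q) ∧ ρ l ∈ relGroup E₂ (xset S Q)) :
    ρ (g * l * g⁻¹) ∈ relGroup E₁ (xset S Q) ∧ ρ (g * l * g⁻¹) ∈ relGroup E₂ (xset S Q) := by
  have hg := (inHom_aut (xset_le d.normalized.1)).mpr (d.model.range_eq.le ⟨g, rfl⟩)
  rw [map_mul, map_mul, map_inv]
  exact ⟨congr_mem_relGroup h.inv₁ hg hl.1, congr_mem_relGroup h.inv₂ hg hl.2⟩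

theorem kSub_normal : (kSub E₁ E₂ p ι ρ).Normal := by
  refine ⟨fun n hn g => ?_⟩
  suffices hle : kSub E₁ E₂ p ι ρ ≤ (kSub E₁ E₂ p ι ρ).comap (MulAut.conj g).toMonoidHom from hle hn
  refine (Subgroup.closure_le _).mpr fun l hl => Subgroup.subset_closure ?_
  refine ⟨d.conj_mem_rel l g hl.1, ?_⟩
  rcases hl.2 with hc | ⟨a, t, ht, rfl⟩
  · left
    show (orderOf (MulAut.conj g l)).Coprime p
    rwa [(MulAut.conj g).orderOf_eq l]
  · exact Or.inr ⟨g * a, t, ht, by show g * (a * ι t * a⁻¹) * g⁻¹ = _; group⟩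

theorem iota_mem_kSub {t : ↥(normalizerIn S (xset S Q))} (ht : (t : Ω) ∈ T₁ ⊓ T₂) :
    ι t ∈ kSub E₁ E₂ p ι ρ := by
  have hX := xset_le (S := S) d.normalized.1
  have hx : ∀ x : xset S Q, ((ρ (ι t) x : xset S Q) : Ω) = (t : Ω) * x * (t : Ω)⁻¹ := fun x => by
    rw [d.model.map_iota]; rfl
  exact Subgroup.subset_closure ⟨⟨conj_mem_relGroup h.inv₁ hX ht.1 hx,
    conj_mem_relGroup h.inv₂ hX ht.2 hx⟩, Or.inr ⟨1, t, ht, by group⟩⟩

theorem mem_of_mem_kSub {m : ↥(normalizerIn S (xset S Q))} (hm : ι m ∈ kSub E₁ E₂ p ι ρ) :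
    (m : Ω) ∈ T₁ ⊓ T₂ := by
  refine ⟨mem_of_mem_closure h.pgroup h.saturated h.inv₁ h.normal₁.1.1 h.closed inf_le_left
      d.cent d.normalized d.model (fun l hl => ⟨hl.1.1, hl.2.imp_right ?_⟩) m hm,
    mem_of_mem_closure h.pgroup h.saturated h.inv₂ h.normal₂.1.1 h.closed inf_le_right
      d.cent d.normalized d.model (fun l hl => ⟨hl.1.2, hl.2.imp_right ?_⟩) m hm⟩
  · rintro ⟨g, t, ht, e⟩; exact ⟨g, t, ht.1, e⟩
  · rintro ⟨g, t, ht, e⟩; exact ⟨g, t, ht.2, e⟩

/-- The generators of `Aut_D(Q)` come from `K`. -/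
theorem aGroup_le_map : aGroup F E₁ E₂ p Q ≤ (kSub E₁ E₂ p ι ρ).map d.res := by
  haveI := d.model.finite
  have hQc := (centralized_automized_of_fullyNormalized h.pgroup h.saturated d.normalized).1
  refine (Subgroup.closure_le _).mpr ?_
  rintro β ⟨Q', e, he, hgood | ⟨t, ht, hty⟩⟩
  · obtain ⟨hn', hord, hg⟩ := hgood
    have hg' := hg.congr h.pgroup h.saturated h.inv₁ h.inv₂
      (centralized_automized_of_fullyNormalized h.pgroup h.saturated hn').1 hQc he.symm
    rw [congr_congr, MulEquiv.self_trans_symm] at hg'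
    obtain ⟨ψ, hψ, hψβ, hdisp, h₁, h₂⟩ := hg'
    obtain ⟨l₀, hl₀⟩ := d.model.range_eq.ge hψ
    have hres : d.res l₀ = β := (d.agree_res l₀).eq (hl₀.symm ▸ hψβ) (le_xset S Q)
    obtain ⟨c, hc, hcr⟩ := exists_pPrime_lift (p := p) d.res l₀ (hres.symm ▸ hord)
    refine ⟨l₀ ^ c, Subgroup.subset_closure ⟨⟨?_, ?_⟩, Or.inl hc⟩, hcr.trans hres⟩
    · rw [map_pow, hl₀]; exact Subgroup.pow_mem _ (mem_relGroup.mpr ⟨h₁, fun x => (hdisp x).1⟩) c
    · rw [map_pow, hl₀]; exact Subgroup.pow_mem _ (mem_relGroup.mpr ⟨h₂, fun x => (hdisp x).2⟩) c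
  · -- conjugate of an element of `T`
    have hQ'S : Q' ≤ S := CfsgLib.Alperin.IsConj.right_le he.isConj
    have htN : t ∈ normalizerIn S Q' := ⟨h.closed.1 ht, normalizer_of_induced hty⟩
    obtain ⟨η, hη, hηN, hηm⟩ := exists_hom_normalizerIn_of_fullyNormalized h.pgroup h.saturated
      d.normalized (CfsgLib.Alperin.IsConj.symm he.isConj)
    obtain ⟨e', he', he'x⟩ := exists_iso hη (le_normalizerIn hQ'S) hηm
    set s := η ⟨t, htN⟩ with hs
    have hsT : s ∈ T₁ ⊓ T₂ := stronglyClosed_apply h.closed hη _ ht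
    have hsN : s ∈ normalizerIn S (xset S Q) := d.normalizer_eq.ge (hηN _)
    have hu : InHom F (e.trans e') := he.trans he'
    obtain ⟨f, hf, hfa⟩ := exists_xset_iso h.pgroup h.saturated hQc hQc hu.symm
    obtain ⟨g, hg⟩ := d.model.range_eq.ge ((inHom_aut (xset_le d.normalized.1)).mp hf)
    refine ⟨g * ι ⟨s, hsN⟩ * g⁻¹, d.kSub_normal.conj_mem _ (d.iota_mem_kSub hsT) g, ?_⟩
    have hc : MulAut.congr (e.trans e') β = d.res (ι ⟨s, hsN⟩) := by
      rw [← congr_congr]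
      refine MulEquiv.ext fun y => Subtype.ext ?_
      obtain ⟨x, rfl⟩ := e'.surjective y
      rw [congr_apply_coe, d.res_iota, he'x, he'x]
      show η _ = η ⟨t, htN⟩ * η _ * (η ⟨t, htN⟩)⁻¹
      rw [← map_inv, ← map_mul, ← map_mul]
      exact congrArg η (Subtype.ext (hty x))
    have hga : d.res g = (e.trans e').symm :=
      (d.agree_res g).eq (hg.symm ▸ hfa) (le_xset S Q)
    rw [map_mul, map_mul, map_inv, hga, ← hc]
    show MulAut.congr (e.trans e').symm (MulAut.congr (e.trans e') β) = β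
    rw [congr_congr, MulEquiv.self_trans_symm]
    rfl

/-- The Sylow subgroup of `K` acts as `Aut_T(Q)`. -/
theorem res_iota_mem {m : ↥(normalizerIn S (xset S Q))} (hm : ι m ∈ kSub E₁ E₂ p ι ρ) :
    d.res (ι m) ∈ autInducedBy (T₁ ⊓ T₂) Q :=
  mem_autInducedBy_iff.mpr ⟨m, d.mem_of_mem_kSub hm, d.res_iota m⟩

theorem not_dvd_relIndex_iota {H : Subgroup L} (hH : kSub E₁ E₂ p ι ρ ⊓ ι.range ≤ H)
    {C : Subgroup L} (hC : C ≤ kSub E₁ E₂ p ι ρ)
    (hn : ι.range ≤ Subgroup.normalizer (C : Set L)) : ¬ p ∣ H.relIndex C := by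
  haveI := d.model.finite
  have h1 : ¬ p ∣ ι.range.relIndex (⊤ : Subgroup L) := by
    rw [Subgroup.relIndex_top_right]; exact d.model.index
  have h2 := not_dvd_relIndex_of_le (N := ι.range) (C := C) le_top le_top hn h1
  intro hd
  refine h2 (hd.trans ?_)
  rw [← Subgroup.inf_relIndex_right H C, ← Subgroup.inf_relIndex_right ι.range C]
  exact Subgroup.relIndex_dvd_of_le_left _
    (le_inf ((le_inf (inf_le_right.trans hC) inf_le_left).trans hH) inf_le_right)

theorem not_dvd_relIndex_aGroup :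
    ¬ p ∣ (autInducedBy (T₁ ⊓ T₂) Q).relIndex (aGroup F E₁ E₂ p Q) := by
  haveI := d.model.finite
  set K := kSub E₁ E₂ p ι ρ
  haveI := d.kSub_normal
  have h1 : ¬ p ∣ (K ⊓ ι.range).relIndex K :=
    d.not_dvd_relIndex_iota (H := K ⊓ ι.range) le_rfl le_rfl
      (Subgroup.normalizer_eq_top (H := K) ▸ le_top)
  have himg : (K ⊓ ι.range).map d.res ≤ autInducedBy (T₁ ⊓ T₂) Q := by
    rintro _ ⟨_, ⟨hm, m, rfl⟩, rfl⟩
    exact d.res_iota_mem hm
  intro hd
  refine h1 ((hd.trans ?_).trans (dvd_refl _))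
  refine dvd_trans ?_ (show ((K ⊓ ι.range).map d.res).relIndex (K.map d.res) ∣
    (K ⊓ ι.range).relIndex K from ?_)
  · refine dvd_trans (dvd_of_eq (Eq.refl _)) (dvd_trans ?_
      (Subgroup.relIndex_dvd_of_le_left _ himg))
    exact Dvd.intro _ (Subgroup.relIndex_mul_relIndex _ _ _
      (autInducedBy_le_aGroup d.normalized.1) d.aGroup_le_map)
  · rw [Subgroup.relIndex_map_map]
    have e : K ⊔ d.res.ker = ((K ⊓ ι.range) ⊔ d.res.ker) ⊔ K :=
      le_antisymm (sup_le le_sup_right (le_sup_right.trans le_sup_left))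
        (sup_le (sup_le_sup_right inf_le_left _) le_sup_left)
    rw [e, relIndex_sup_of_le_normalizer (Subgroup.normalizer_eq_top (H := K) ▸ le_top)]
    exact Subgroup.relIndex_dvd_of_le_left _ le_sup_left

end ModelData

variable (h)
include h

/-- `Aut_T(Q)` has index prime to `p` in `Aut_D(Q)` for fully normalized `T`-centric `Q`. -/
theorem not_dvd_relIndex_autInducedBy {Q : Subgroup Ω} (hQ : TCentric F (T₁ ⊓ T₂) Q)
    (hn : F.IsFullyNormalized Q) :
    ¬ p ∣ (autInducedBy (T₁ ⊓ T₂) Q).relIndex (aGroup F E₁ E₂ p Q) := by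
  obtain ⟨L, hL, ι, ρ, d⟩ := exists_modelData h hQ hn
  exact d.not_dvd_relIndex_aGroup

/-- Elements of `S` inducing members of `Aut_D(Q)` act on `Q` as elements of `T`. -/
theorem autInducedBy_inf_aGroup {Q : Subgroup Ω} (hQ : TCentric F (T₁ ⊓ T₂) Q)
    (hn : F.IsFullyNormalized Q) :
    autInducedBy S Q ⊓ aGroup F E₁ E₂ p Q = autInducedBy (T₁ ⊓ T₂) Q := by
  have hle : autInducedBy (T₁ ⊓ T₂) Q ≤ autInducedBy S Q ⊓ aGroup F E₁ E₂ p Q :=
    le_inf (fun β hβ => by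
      obtain ⟨t, ht, htx⟩ := mem_autInducedBy_iff.mp hβ
      exact mem_autInducedBy_iff.mpr ⟨t, h.closed.1 ht, htx⟩) (autInducedBy_le_aGroup hn.1)
  refine le_antisymm ?_ hle
  set A := autInducedBy (T₁ ⊓ T₂) Q
  set B := autInducedBy S Q ⊓ aGroup F E₁ E₂ p Q
  haveI := finite_of_le (S := S) hn.1
  haveI := finite_mulAut (P := Q)
  have hBp : IsPGroup p B := (isPGroup_autInducedBy h.pgroup Q).to_le inf_le_left
  obtain ⟨n, hn'⟩ := hBp.index (A.subgroupOf B)
  have hnd : ¬ p ∣ A.relIndex B := fun hd => not_dvd_relIndex_autInducedBy h hQ hn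
    (hd.trans (Dvd.intro _ (Subgroup.relIndex_mul_relIndex _ _ _ hle inf_le_right)))
  rcases n with _ | n
  · exact Subgroup.relIndex_eq_one.mp (by simpa [Subgroup.relIndex] using hn')
  · exact absurd (show p ∣ (A.subgroupOf B).index by rw [hn']; exact dvd_pow_self p (by omega)) hnd

end CfsgLib.FusionBasics.Meet
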