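import Cfsg.Agent.Lib.FusionBasics.Meet.Basic
import Cfsg.Agent.Lib.Alperin.NormalModel

/-!
Automorphisms of `p'`-order inducing a member of a normal subsystem on a centric subgroup.
-/

set_option autoImplicit false
set_option linter.style.haveILetI false
set_option linter.unusedSectionVars false

namespace CfsgLib.FusionBasics.Meet

open Cfsg Cfsg.FusionSystem CfsgLib.Alperin CfsgLib.FusionBasics CfsgLib.FusionSub

variable {Ω : Type*} [Group Ω] {S T : Subgroup Ω} [Finite S] {p : ℕ} [Fact p.Prime]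
variable {F : FusionSystem S} {E : FusionSystem T}

/-- An automorphism of order prime to `p` of `W ≤ T` inducing a member of `Aut_E` on a centric fully
normalized normal subgroup of `W` is in `Aut_E(W)`. -/
theorem mem_autGroup_of_restrict (hS : IsPGroup p S) (hE : E.IsInvariantIn F)
    (hEs : E.IsSaturated p) {U W : Subgroup Ω} (hWT : W ≤ T) (hUW : U ≤ W)
    (hWN : W ≤ Subgroup.normalizer (U : Set Ω)) (hUc : E.IsCentric U)
    (hUn : E.IsFullyNormalized U) {b : MulAut W} (hb : b ∈ F.autGroup W)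
    (hord : (orderOf b).Coprime p) {a : MulAut U} (ha : a ∈ E.autGroup U) (hba : Agree b a) :
    b ∈ E.autGroup W := by
  have hTS := hE.2.1.1
  have hT : IsPGroup p T := isPGroup_of_le hS hTS
  haveI := finite_of_le hTS
  haveI := finite_of_le (S := S) (hWT.trans hTS)
  have ha' : U.subtype.comp a.toMonoidHom ∈ E.Hom U := (mem_autGroup_iff E hUc.1).mp ha
  obtain ⟨ψ, hψ, hψx⟩ := (receptive_of_fullyNormalized hT hEs hUn).2 U _ ha'
    (range_subtype_comp_aut a)
  have hext : W ≤ extender T U (U.subtype.comp a.toMonoidHom) := by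
    intro g hg
    refine mem_extender_iff.mpr ⟨hWT hg, hWN hg, (b ⟨g, hg⟩ : W), hWT (b ⟨g, hg⟩).2,
      fun x hx => ?_⟩
    show ((a ⟨g * x * g⁻¹, hx⟩ : U) : Ω) = _
    rw [← hba _ (hUW hx) hx]
    show _ = _ * ((a x : U) : Ω) * _
    rw [← hba x (hUW x.2) x.2, show (⟨g * x * g⁻¹, hUW hx⟩ : W) = ⟨g, hg⟩ * ⟨x, hUW x.2⟩ * ⟨g, hg⟩⁻¹
      from rfl, map_mul, map_mul, map_inv]
    rfl
  set χ : W →* Ω := ψ.comp (Subgroup.inclusion hext) with hχdef
  have hχ : χ ∈ E.Hom W := restrict_mem hψ hext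
  have hχU : ∀ x : W, ∀ hx : (x : Ω) ∈ U, χ x = ((a ⟨x, hx⟩ : U) : Ω) := fun x hx => hψx x hx _
  have hval : ∀ g : W, χ g ∈ W := by
    intro g
    have hbg : ((b g : W) : Ω) ∈ T := hWT (b g).2
    have hc : ((b g : W) : Ω)⁻¹ * χ g ∈ U := by
      refine hUc.2 U (isConj_refl E hUc.1) ⟨T.mul_mem (T.inv_mem hbg) (apply_mem hχ g), ?_⟩
      intro y hy
      obtain ⟨x, hx⟩ := a.surjective ⟨y, hy⟩
      have hgx : (g : Ω) * x * (g : Ω)⁻¹ ∈ U := mem_normalizer_conj (hWN g.2) x.2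
      have e1 : χ (g * ⟨x, hUW x.2⟩ * g⁻¹) = ((b (g * ⟨x, hUW x.2⟩ * g⁻¹) : W) : Ω) :=
        (hχU _ hgx).trans (hba _ _ hgx).symm
      have e2 : χ ⟨x, hUW x.2⟩ = y :=
        (hχU _ x.2).trans (congrArg Subtype.val hx)
      have e3 : ((b ⟨x, hUW x.2⟩ : W) : Ω) = y :=
        (hba _ _ x.2).trans (congrArg Subtype.val hx)
      rw [map_mul, map_mul, map_inv, map_mul, map_mul, map_inv, e2] at e1
      simp only [Subgroup.coe_mul, Subgroup.coe_inv, e3] at e1
      calc y * (((b g : W) : Ω)⁻¹ * χ g) = ((b g : W) : Ω)⁻¹ *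
            (((b g : W) : Ω) * y * ((b g : W) : Ω)⁻¹) * χ g := by group
        _ = ((b g : W) : Ω)⁻¹ * (χ g * y * (χ g)⁻¹) * χ g := by rw [e1]
        _ = ((b g : W) : Ω)⁻¹ * χ g * y := by group
    have h2 := W.mul_mem (b g).2 (hUW hc)
    rwa [mul_inv_cancel_left] at h2
  obtain ⟨e, he, hex⟩ := exists_aut_of_hom' E hχ hval
  have heF : e ∈ F.autGroup W :=
    (mem_autGroup_iff F (hWT.trans hTS)).mpr (hE.1 W ((mem_autGroup_iff E hWT).mp he))
  obtain ⟨k, hk⟩ := exists_pow_eq_one_of_fix (S := T) (p := p) hT hWT hUW hWN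
    (fun y hy => hUc.2 U (isConj_refl E hUc.1) ⟨hWT hy.1, hy.2⟩) (e⁻¹ * b)
    (fun x hx => by
      rw [MulAut.mul_apply, show b x = e x from
        Subtype.ext ((hba x x.2 hx).trans ((hχU x hx).symm.trans (hex x).symm)),
        MulAut.inv_apply_self])
  haveI := finite_autGroup F (hWT.trans hTS)
  let H : Subgroup (F.autGroup W) := (E.autGroup W).subgroupOf (F.autGroup W)
  haveI : H.Normal := ⟨fun n hn g => Subgroup.mem_subgroupOf.mpr
    (conj_mem_sub hE hWT g.2 (Subgroup.mem_subgroupOf.mp hn))⟩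
  set θ : F.autGroup W := ⟨e, heF⟩⁻¹ * ⟨b, hb⟩ with hθ
  have hθk : θ ^ p ^ k = 1 := Subtype.ext (by simpa [hθ] using hk)
  have hθn : θ ^ orderOf b ∈ H := by
    rw [← QuotientGroup.eq_one_iff, QuotientGroup.mk_pow, hθ, QuotientGroup.mk_mul,
      (QuotientGroup.eq_one_iff _).mpr (show (⟨e, heF⟩⁻¹ : F.autGroup W) ∈ H from
        inv_mem (Subgroup.mem_subgroupOf.mpr he)), one_mul, ← QuotientGroup.mk_pow,
      show (⟨b, hb⟩ : F.autGroup W) ^ orderOf b = 1 from Subtype.ext (pow_orderOf_eq_one b)]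
    rfl
  have hθH : θ ∈ H := mem_of_pow_mem_of_coprime hθk hord hθn
  have := (E.autGroup W).mul_mem he (Subgroup.mem_subgroupOf.mp hθH)
  simpa [hθ] using this

end CfsgLib.FusionBasics.Meet
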