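import Cfsg.Agent.Lib.FusionBasics.Meet.Induction
import Cfsg.Agent.Lib.FusionBasics.Criterion.Main

/-!
The meet is saturated.
-/

set_option autoImplicit false
set_option linter.style.haveILetI false
set_option linter.unusedSectionVars false
set_option maxHeartbeats 800000

namespace CfsgLib.FusionBasics.Meet

open Cfsg Cfsg.FusionSystem CfsgLib.Alperin CfsgLib.FusionBasics CfsgLib.FusionSub

universe u

variable {Ω : Type u} [Group Ω] {S T₁ T₂ : Subgroup Ω} [Finite S] {p : ℕ} [Fact p.Prime]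
  {F : FusionSystem S} {E₁ : FusionSystem T₁} {E₂ : FusionSystem T₂}
variable (h : MeetData F E₁ E₂ p)
include h

theorem meetSystem_isInvariantIn : (meetSystem h).IsInvariantIn F :=
  ⟨meetSystem_isSubsystemOf h, h.closed, meetSystem_invCond h, meet_decomp h⟩

/-- `Aut_D(T)` is generated as prescribed. -/
theorem meet_autGroup_top :
    (meetSystem h).autGroup (T₁ ⊓ T₂) = aGroup F E₁ E₂ p (T₁ ⊓ T₂) := by
  haveI := finite_of_le h.closed.1
  refine le_antisymm ?_ (aGroup_le_meetSystem h (tCentric_top h.closed))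
  let Y : FusionSystem (T₁ ⊓ T₂) :=
    { Hom := fun P => {φ | φ ∈ (meetSystem h).Hom P ∧ ∀ (hTP : T₁ ⊓ T₂ ≤ P)
        (a : MulAut ↥(T₁ ⊓ T₂)), (∀ x : ↥(T₁ ⊓ T₂), φ ⟨x, hTP x.2⟩ = (a x : Ω)) →
          a ∈ aGroup F E₁ E₂ p (T₁ ⊓ T₂)}
      le_of_mem := fun hm => (meetSystem h).le_of_mem hm.1
      injective_of_mem := fun hm => (meetSystem h).injective_of_mem hm.1
      conj_mem := fun {P g} hP hg => ⟨(meetSystem h).conj_mem hP hg, fun hTP a ha =>
        autInducedBy_le_aGroup h.closed.1 (mem_autInducedBy_iff.mpr ⟨g, hg, fun x => (ha x).symm⟩)⟩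
      comp_mem := by
        rintro P Q φ ψ ⟨hφ, hφa⟩ ⟨hψ, hψa⟩ hPQ
        refine ⟨(meetSystem h).comp_mem hφ hψ hPQ, fun hTP a ha => ?_⟩
        obtain ⟨a₁, -, ha₁⟩ := exists_aut_of_hom' (meetSystem h) (restrict_mem hφ hTP)
          fun x => apply_mem hφ _
        have hTQ : T₁ ⊓ T₂ ≤ Q := fun y hy => by
          obtain ⟨x, hx⟩ := a₁.surjective ⟨y, hy⟩
          have e1 : (a₁ x : Ω) = y := congrArg Subtype.val hx
          rw [← e1, ha₁]
          exact hPQ _
        have h1 := hφa hTP a₁ fun x => (ha₁ x).symm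
        have h2 := hψa hTQ (a * a₁⁻¹) fun y => by
          obtain ⟨x, rfl⟩ := a₁.surjective y
          rw [MulAut.mul_apply, MulAut.inv_apply_self, ← ha x]
          exact congrArg ψ (Subtype.ext (ha₁ x))
        have := Subgroup.mul_mem _ h2 h1
        rwa [inv_mul_cancel_right] at this
      inv_mem := by
        rintro P φ ⟨hφ, hφa⟩
        obtain ⟨θ, hθ, -, hθx, -⟩ := exists_inverse hφ rfl
        refine ⟨θ, ⟨hθ, fun hTP a ha => ?_⟩, fun x => hθx x ⟨x, rfl⟩⟩
        have key : ∀ x : ↥(T₁ ⊓ T₂), ∃ w : P, (w : Ω) = a x ∧ φ w = (x : Ω) := fun x => by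
          obtain ⟨w, hw⟩ := hTP x.2
          refine ⟨w, ?_, hw⟩
          rw [← ha x, show (⟨(x : Ω), hTP x.2⟩ : φ.range) = ⟨φ w, ⟨w, rfl⟩⟩ from
            Subtype.ext hw.symm, hθx w ⟨w, rfl⟩]
        have hTP' : T₁ ⊓ T₂ ≤ P := fun y hy => by
          obtain ⟨w, hw, -⟩ := key (a.symm ⟨y, hy⟩)
          rw [MulEquiv.apply_symm_apply] at hw
          exact (show (w : Ω) = y from hw) ▸ w.2
        have := Subgroup.inv_mem _ (hφa hTP' a⁻¹ fun y => by
          obtain ⟨w, hw, hwφ⟩ := key (a.symm y)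
          rw [MulEquiv.apply_symm_apply] at hw
          show φ _ = ((a.symm y : _) : Ω)
          rw [← hwφ]
          exact congrArg φ (Subtype.ext hw.symm))
        rwa [inv_inv] at this }
  intro a ha
  refine (meetSystem_le h (Y := Y) ?_ ((mem_autGroup_iff _ le_rfl).mp ha)).2 le_rfl a fun x => rfl
  intro Q hQ β hβ
  refine (mem_autGroup_iff _ hQ.1).mpr
    ⟨(mem_autGroup_iff _ hQ.1).mp (aGroup_le_meetSystem h hQ hβ), fun hTQ a ha => ?_⟩
  obtain rfl : Q = T₁ ⊓ T₂ := le_antisymm hQ.1 hTQ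
  rwa [show a = β from MulEquiv.ext fun x => Subtype.ext (ha x).symm]

variable {R : Subgroup Ω} (hn : F.IsFullyNormalized R) (hR : TCentric F (T₁ ⊓ T₂) R)
include hn hR

/-- A map of the meet onto a conjugate of `R` under `Aut_F(T)` extends in the meet to its extender. -/
theorem receptive_meet {α : F.autGroup (T₁ ⊓ T₂)} {Q : Subgroup Ω} (hQ : Q ≤ T₁ ⊓ T₂)
    (hαQ : autImage (α : MulAut ↥(T₁ ⊓ T₂)) Q = R) : (meetSystem h).IsReceptive Q := by
  refine ⟨hQ, fun P d hd hdr => ?_⟩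
  let T := T₁ ⊓ T₂
  have hinv := meetSystem_invCond h
  have hαF : InHom F (α : MulAut T) := (inHom_aut h.closed.1).mpr α.2
  obtain ⟨aQ, haQ, haQx⟩ := exists_restrict hαF hQ hαQ
  have hdF : d ∈ F.Hom P := meetSystem_isSubsystemOf h P hd
  set N := extender T P d with hN
  have hPT : P ≤ T := dom_le hd
  have hNT : N ≤ T := extender_le P d
  rcases (le_extender hd).eq_or_lt with heq | hlt
  · exact ⟨_, restrict_mem hd heq.ge, fun x hP hN' => rfl⟩
  set uP : P ≃* Q := isoOfHom d (F.injective_of_mem hdF) hdr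
  set φ : P →* Ω := R.subtype.comp (uP.trans aQ).toMonoidHom with hφdef
  have hφ : φ ∈ F.Hom P := InHom.trans (mem_of_apply_eq hdF fun _ => rfl) haQ
  obtain ⟨ψ₀, hψ₀, hψ₀x⟩ :=
    (receptive_of_fullyNormalized h.pgroup h.saturated hn).2 P φ hφ (equiv_range _)
  have hNS : N ≤ extender S P φ := by
    intro g hg
    obtain ⟨hgT, hgN, k, hk, hgk⟩ := mem_extender_iff.mp hg
    refine mem_extender_iff.mpr ⟨h.closed.1 hgT, hgN, ((α : MulAut T) ⟨k, hk⟩ : T),
      h.closed.1 (Subtype.mem _), fun x hx => ?_⟩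
    have key : ∀ z : P, φ z = (((α : MulAut T) ⟨d z, apply_mem hd z⟩ : T) : Ω) := fun z =>
      (haQx _ (apply_mem hd z) (uP z).2).symm
    rw [key, key, show (⟨d ⟨g * x * g⁻¹, hx⟩, apply_mem hd _⟩ : T) =
      ⟨k, hk⟩ * ⟨d x, apply_mem hd x⟩ * ⟨k, hk⟩⁻¹ from Subtype.ext (hgk x hx), map_mul, map_mul,
      map_inv]
    rfl
  set ψ : N →* Ω := ψ₀.comp (Subgroup.inclusion hNS)
  have hψ : ψ ∈ F.Hom N := restrict_mem hψ₀ hNS
  obtain ⟨c, hc⟩ := exists_cl h hNT hψ
  have hψP : ∀ x : P, ψ ⟨x, le_extender hd x.2⟩ = (((uP.trans aQ) x : R) : Ω) :=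
    fun x => hψ₀x x x.2 _
  -- transporters
  obtain ⟨e, γ, he⟩ := exists_trans h hn hR hPT (InHom.isConj hφ)
  have hbelow := clsBelow h R
  have he' : Trans h R (MulEquiv.refl R) (1 : Delta h) :=
    ⟨hR.1, _, incl_mem F ((normalizerIn_le _ R).trans h.closed.1), fun x _ => rfl,
      Cl.incl h (normalizerIn_le _ R)⟩
  have hQe : Trans h Q aQ (QuotientGroup.mk' (deltaKer h) α) := by
    refine ⟨hQ, (T.subtype.comp (α : MulAut T).toMonoidHom).comp
      (Subgroup.inclusion (normalizerIn_le T Q)),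
      restrict_mem ((mem_autGroup_iff F h.closed.1).mp α.2) _, fun y hy => ?_,
      ClT.of_aut α (normalizerIn_le T Q) fun x => rfl⟩
    exact haQx y (hQ y.2) y.2
  have h1 := goodMap_of_mem h hn hR hbelow hd P Q le_rfl uP (fun x => rfl) e γ he aQ _ hQe
  have h2 := theta_of_trans h hn hR hbelow hψ hc (le_extender hd)
    (fun g hg => ⟨(mem_extender_iff.mp hg).1, (mem_extender_iff.mp hg).2.1⟩) (Or.inl hlt)
    (uP.trans aQ) hψP he he'
  have h3 := h2.mul h hn hR (h1.inv h hn hR)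
  rw [show ((e.symm.trans (uP.trans aQ)).trans (MulEquiv.refl R) : MulAut R) *
      ((e.symm.trans uP).trans aQ : MulAut R)⁻¹ = 1 from mul_inv_eq_one.mpr
        (MulEquiv.ext fun _ => rfl),
    show 1 * c * γ⁻¹ * (QuotientGroup.mk' (deltaKer h) α * γ⁻¹)⁻¹ =
      c * (QuotientGroup.mk' (deltaKer h) α)⁻¹ by group] at h3
  obtain ⟨f, hf, hf1, hfc⟩ := (mem_gamma0 h).mp (h3.mem_gamma0 h hn hR)
  let U := normalizerIn T R
  have hUT : U ≤ T := normalizerIn_le _ R
  have hval : ∀ x : N, ψ x ∈ U := fun x =>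
    ⟨stronglyClosed_apply h.closed hψ x (hNT x.2),
      (apply_mem_normalizerIn hψ (le_extender hd) (map_eq_of_apply (le_extender hd) hψP) x
        (mem_extender_iff.mp x.2).2.1).2⟩
  set fi : U →* Ω := U.subtype.comp (f⁻¹ : MulAut U).toMonoidHom with hfi
  set χ : N →* Ω := fi.comp (ψ.codRestrict U hval) with hχ
  have hχc : Cl h N χ (QuotientGroup.mk' (deltaKer h) α) := by
    have := hc.comp hinv (Cl.aut_inv h hfc) hval (ρ := χ) fun _ => rfl
    rwa [show (c * (QuotientGroup.mk' (deltaKer h) α)⁻¹)⁻¹ * c =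
      QuotientGroup.mk' (deltaKer h) α by group] at this
  set αi : T →* Ω := T.subtype.comp ((α⁻¹ : F.autGroup T) : MulAut T).toMonoidHom
  have hχT : ∀ x : N, χ x ∈ T := fun x => hUT (f⁻¹ _).2
  set r : N →* Ω := αi.comp (χ.codRestrict T hχT) with hr
  have hrc : Cl h N r 1 := by
    have := hχc.comp hinv
      (ClT.of_aut (E := meetSystem h) (χ := QuotientGroup.mk' (deltaKer h)) α⁻¹ le_rfl
        (φ := αi) fun _ => rfl) hχT (ρ := r) fun _ => rfl
    rwa [map_inv, inv_mul_cancel] at this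
  refine ⟨r, Cl.mem_of_one h hrc, fun x hxP hxN => ?_⟩
  have hxR : ((uP.trans aQ) ⟨x, hxP⟩ : Ω) ∈ R := Subtype.mem _
  have e1 : χ ⟨x, hxN⟩ = ((uP.trans aQ) ⟨x, hxP⟩ : Ω) := by
    show ((f⁻¹ ⟨ψ ⟨x, hxN⟩, _⟩ : U) : Ω) = _
    have e0 : (⟨ψ ⟨x, hxN⟩, hval ⟨x, hxN⟩⟩ : U) =
        ⟨((uP.trans aQ) ⟨x, hxP⟩ : Ω), le_normalizerIn hR.1 hxR⟩ := Subtype.ext (hψP ⟨x, hxP⟩)
    rw [e0]
    exact (hf1.inv (le_normalizerIn hR.1)) _ _ hxR
  show (((α⁻¹ : F.autGroup T) : MulAut T) ⟨χ ⟨x, hxN⟩, _⟩ : Ω) = d ⟨x, hxP⟩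
  have e2 : (⟨χ ⟨x, hxN⟩, hχT _⟩ : T) = (α : MulAut T) ⟨d ⟨x, hxP⟩, apply_mem hd _⟩ :=
    Subtype.ext (e1.trans (haQx _ (apply_mem hd _) (uP ⟨x, hxP⟩).2).symm)
  rw [e2]
  simp

omit hn hR in
/-- `Aut_T(R)` has index prime to `p` in `Aut_D(R)` for fully normalized `T`-centric `R`. -/
theorem not_dvd_relIndex_meet : ∀ {R : Subgroup Ω}, F.IsFullyNormalized R →
    TCentric F (T₁ ⊓ T₂) R →
      ¬ p ∣ (autInducedBy (T₁ ⊓ T₂) R).relIndex ((meetSystem h).autGroup R) := by
  suffices H : ∀ (n : ℕ) {R : Subgroup Ω}, Nat.card S - Nat.card R = n → F.IsFullyNormalized R →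
      TCentric F (T₁ ⊓ T₂) R →
        ¬ p ∣ (autInducedBy (T₁ ⊓ T₂) R).relIndex ((meetSystem h).autGroup R) from
    fun {R} h₁ h₂ => H _ rfl h₁ h₂
  intro n
  induction n using Nat.strong_induction_on with
  | _ n ih =>
  intro R hnR hn hR
  set T := T₁ ⊓ T₂ with hTdef
  have hT1 := not_dvd_relIndex_autInducedBy h hR hn
  rcases hR.1.eq_or_lt with hRT | hlt
  · subst hRT
    rwa [meet_autGroup_top h]
  set A := aGroup F E₁ E₂ p R with hA
  set G := (meetSystem h).autGroup R with hG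
  set U := normalizerIn T R with hU
  have hUT : U ≤ T := normalizerIn_le T R
  have hRU : R ≤ U := le_normalizerIn hR.1
  haveI := finite_of_le h.closed.1
  have hlt' : R < U := CfsgLib.FusionSub.lt_normalizerIn (isPGroup_of_le h.pgroup h.closed.1) hlt
  have hUc : TCentric F T U := hR.of_ge hRU hUT
  have hGF : G ≤ F.autGroup R := fun a ha => (mem_autGroup_iff F hn.1).mpr
    (meetSystem_isSubsystemOf h R ((mem_autGroup_iff _ hR.1).mp ha))
  have hAG : A ≤ G := aGroup_le_meetSystem h hR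
  -- `p`-elements stabilising `R` restrict into `A`
  obtain ⟨U', hUU', hU'n⟩ := exists_isFullyNormalized F (hUT.trans h.closed.1)
  have hU'c : TCentric F T U' := hUc.of_isConj h.closed hUU'
  have hS' := not_dvd_relIndex_autInducedBy h hU'c hU'n
  have hIH := ih (Nat.card S - Nat.card U') (by
    have h1 := CfsgLib.Alperin.IsConj.card_eq hUU'
    have h2 := card_lt_card (S := S) (hUT.trans h.closed.1) hlt'
    have h3 := Subgroup.card_le_of_le hU'n.1
    omega) rfl hU'n hU'c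
  have key : ∀ g ∈ (meetSystem h).autGroup U, ∀ k : ℕ, g ^ p ^ k = 1 → ∀ m : MulAut R,
      Agree g m → m ∈ A := by
    intro g hg k hk m hgm
    obtain ⟨φ, hφ, hφr⟩ := hUU'
    set f := isoOfHom φ (F.injective_of_mem hφ) hφr
    have hf : InHom F f := mem_of_apply_eq hφ fun _ => rfl
    have hg' : MulAut.congr f g ∈ (meetSystem h).autGroup U' :=
      congr_mem_sub (meetSystem_isInvariantIn h) hf hUT hg
    set G' := (meetSystem h).autGroup U'
    haveI := finite_autGroup (meetSystem h) hU'c.1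
    have hp' : IsPGroup p (autInducedBy T U') :=
      isPGroup_autInducedBy (isPGroup_of_le h.pgroup h.closed.1) U'
    have hle' : autInducedBy T U' ≤ G' := autInducedBy_le_autGroup (meetSystem h) hU'c.1
    have hgp : IsPGroup p (Subgroup.zpowers (⟨_, hg'⟩ : G')) := by
      rintro ⟨_, n, rfl⟩
      refine ⟨k, Subtype.ext ?_⟩
      show ((⟨_, hg'⟩ : G') ^ n) ^ p ^ k = 1
      rw [← zpow_natCast, ← zpow_mul, mul_comm, zpow_mul, zpow_natCast]
      rw [show (⟨MulAut.congr f g, hg'⟩ : G') ^ p ^ k = 1 from Subtype.ext (by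
        show (MulAut.congr f g) ^ p ^ k = 1
        rw [← map_pow, hk, map_one]), one_zpow]
    obtain ⟨v, -, hv⟩ := exists_conj_le (p := p) (M := (⊤ : Subgroup G'))
      (R := (autInducedBy T U').subgroupOf G') (B := Subgroup.zpowers (⟨_, hg'⟩ : G')) le_top (by
        have hp : IsPGroup p ((autInducedBy T U').subgroupOf G') :=
          hp'.comap_of_injective _ G'.subtype_injective
        have := (hp.toSylow (show ¬ p ∣ ((autInducedBy T U').subgroupOf G').index from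
          hIH)).card_eq_multiplicity
        rwa [IsPGroup.toSylow_coe, ← Subgroup.card_top (G := G')] at this) le_top hgp
    have hmem := hv _ (Subgroup.mem_zpowers _)
    obtain ⟨t, ht, htx⟩ := mem_autInducedBy_iff.mp (Subgroup.mem_subgroupOf.mp hmem)
    have hvF : InHom F (v : MulAut U') := meetSystem_isSubsystemOf h U'
      ((mem_autGroup_iff _ hU'c.1).mp v.2)
    have hw : InHom F (f.trans (v : MulAut U')) := hf.trans hvF
    set w := f.trans (v : MulAut U') with hwdef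
    set R'' := (R.subgroupOf U).map (U'.subtype.comp w.toMonoidHom) with hR''
    obtain ⟨e, he, hwe⟩ := exists_restrict hw hRU (rfl : _ = R'')
    refine Subgroup.subset_closure ⟨R'', e, he, Or.inr ⟨t, ht, fun y => ?_⟩⟩
    obtain ⟨x, rfl⟩ := e.surjective y
    rw [congr_apply_coe, ← hwe _ (hRU (m x).2) (m x).2, ← hwe _ (hRU x.2) x.2]
    have e1 := htx (w ⟨x, hRU x.2⟩)
    rw [← e1]
    refine congrArg Subtype.val ?_
    show w ⟨((m x : R) : Ω), _⟩ = (v : MulAut U') (MulAut.congr f g ((v : MulAut U').symm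
      ((v : MulAut U') (f ⟨x, hRU x.2⟩))))
    rw [MulEquiv.symm_apply_apply]
    show _ = (v : MulAut U') (f (g (f.symm (f ⟨x, hRU x.2⟩))))
    rw [MulEquiv.symm_apply_apply]
    exact congrArg w (Subtype.ext (hgm x (hRU x.2) x.2).symm)
  -- the index of `A` in `Aut_D(R)`
  haveI := finite_autGroup (meetSystem h) hR.1
  haveI hAn : (A.subgroupOf G).Normal := ⟨fun a ha b => Subgroup.mem_subgroupOf.mpr
    (conj_mem_aGroup hn.1 (hGF b.2) (Subgroup.mem_subgroupOf.mp ha))⟩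
  have hidx : ¬ p ∣ A.relIndex G := by
    intro hd
    obtain ⟨q, hq⟩ := exists_prime_orderOf_dvd_card' (G := G ⧸ A.subgroupOf G) p
      (by rw [← Subgroup.index_eq_card]; exact hd)
    obtain ⟨⟨a, ha⟩, rfl⟩ := QuotientGroup.mk_surjective q
    have hbelow := clsBelow h R
    have he : Trans h R (MulEquiv.refl R) (1 : Delta h) :=
      ⟨hR.1, _, incl_mem F (hUT.trans h.closed.1), fun x _ => rfl,
        Cl.incl h (normalizerIn_le _ R)⟩
    have h1 := goodMap_of_mem h hn hR hbelow ((mem_autGroup_iff _ hR.1).mp ha) R R le_rfl a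
      (fun x => rfl) _ _ he _ _ he
    rw [inv_one, mul_one] at h1
    obtain ⟨g, hg, m, hgm, hma, hgc⟩ := h1
    have hma' : a * m⁻¹ ∈ A := hma
    haveI := finite_autGroup (meetSystem h) hUT
    have hgD : g ∈ (meetSystem h).autGroup U := (mem_autGroup_iff _ hUT).mpr (Cl.mem_of_one h hgc)
    obtain ⟨k, n, hkn, hn'⟩ := CfsgLib.FusionExamples.exists_coprime_power (p := p)
      (⟨g, hgD⟩ : (meetSystem h).autGroup U)
    have hkn' : (g ^ p ^ k) ^ n = 1 := congrArg Subtype.val hkn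
    have hmA : m ^ n ∈ A := key (g ^ n) (Subgroup.pow_mem _ hgD n) k
      (by rw [← pow_mul, mul_comm, pow_mul, hkn']) _ (hgm.pow n)
    have hmG : m ∈ G := by
      have := G.mul_mem (G.inv_mem (hAG hma')) ha
      rwa [mul_inv_rev, inv_inv, inv_mul_cancel_right] at this
    set q' : G ⧸ A.subgroupOf G := QuotientGroup.mk ⟨m, hmG⟩
    have hqq : (QuotientGroup.mk ⟨a, ha⟩ : G ⧸ A.subgroupOf G) = q' := by
      refine (QuotientGroup.eq.mpr ?_).symm
      show m⁻¹ * a ∈ A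
      have := conj_mem_aGroup hn.1 (Subgroup.inv_mem _ (hGF hmG)) hma'
      rwa [show m⁻¹ * (a * m⁻¹) * m⁻¹⁻¹ = m⁻¹ * a by group] at this
    have hqn : q' ^ n = 1 := by
      rw [← QuotientGroup.mk_pow, QuotientGroup.eq_one_iff]
      exact hmA
    rw [hqq] at hq
    have := orderOf_dvd_of_pow_eq_one hqn
    rw [hq] at this
    exact (Fact.out : p.Prime).coprime_iff_not_dvd.mp hn'.symm this
  intro hd
  rw [← Subgroup.relIndex_mul_relIndex _ A _ (autInducedBy_le_aGroup hn.1) hAG] at hd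
  rcases (Fact.out : p.Prime).dvd_mul.mp hd with h1 | h1
  · exact hT1 h1
  · exact hidx h1

omit hn hR in
/-- A `T`-centric subgroup has a conjugate in the meet which is fully automized and receptive. -/
theorem exists_good_meet {P : Subgroup Ω} (hP : TCentric F (T₁ ⊓ T₂) P) :
    ∃ Q, (meetSystem h).IsConj P Q ∧ (meetSystem h).IsFullyAutomized p Q ∧
      (meetSystem h).IsReceptive Q := by
  set T := T₁ ⊓ T₂ with hT
  haveI := finite_of_le h.closed.1
  obtain ⟨R, hPR, hn⟩ := exists_isFullyNormalized F (hP.1.trans h.closed.1)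
  have hR : TCentric F T R := hP.of_isConj h.closed hPR
  obtain ⟨φ, hφ, hφr⟩ := hPR
  obtain ⟨a, ha, ε, hε, hx⟩ := meet_decomp h P hP.1 φ hφ
  set Q := ε.range with hQ
  have hQT : Q ≤ T := range_le hε
  have hαQ : autImage a Q = R := by
    rw [← hφr]
    ext y
    constructor
    · rintro ⟨w, ⟨x, hxw⟩, rfl⟩
      refine ⟨x, (hx x (apply_mem hε x)).trans ?_⟩
      exact congrArg (fun z : T => ((a z : T) : Ω)) (Subtype.ext hxw)
    · rintro ⟨x, rfl⟩
      exact ⟨⟨ε x, apply_mem hε x⟩, ⟨x, rfl⟩, (hx x _).symm⟩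
  refine ⟨Q, ⟨ε, hε, rfl⟩, ⟨hQT, ?_⟩, receptive_meet h hn hR (α := ⟨a, ha⟩) hQT hαQ⟩
  obtain ⟨e, he, hae⟩ := exists_restrict ((inHom_aut h.closed.1).mpr ha) hQT hαQ
  haveI := finite_autGroup (meetSystem h) hQT
  have hinv := meetSystem_isInvariantIn h
  have hmap : ((meetSystem h).autGroup Q).map (MulAut.congr e).toMonoidHom =
      (meetSystem h).autGroup R := by
    refine le_antisymm ?_ fun β hβ => ⟨MulAut.congr e.symm β,
      congr_mem_sub hinv he.symm hR.1 hβ, (MulAut.congr e).apply_symm_apply β⟩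
    rintro _ ⟨β, hβ, rfl⟩
    exact congr_mem_sub hinv he hQT hβ
  have hmapT : (autInducedBy T Q).map (MulAut.congr e).toMonoidHom = autInducedBy T R := by
    ext β
    constructor
    · rintro ⟨b, hb, rfl⟩
      obtain ⟨t, ht, htx⟩ := mem_autInducedBy_iff.mp hb
      refine mem_autInducedBy_iff.mpr ⟨(a ⟨t, ht⟩ : T), Subtype.mem _, fun y => ?_⟩
      obtain ⟨x, rfl⟩ := e.surjective y
      show ((MulAut.congr e b (e x) : R) : Ω) = _
      rw [congr_apply_coe, ← hae _ (hQT (b x).2) (b x).2, ← hae _ (hQT x.2) x.2,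
        show (⟨(b x : Ω), hQT (b x).2⟩ : T) = ⟨t, ht⟩ * ⟨x, hQT x.2⟩ * ⟨t, ht⟩⁻¹ from
          Subtype.ext (htx x), map_mul, map_mul, map_inv]
      rfl
    · intro hβ
      obtain ⟨t, ht, htx⟩ := mem_autInducedBy_iff.mp hβ
      refine ⟨MulAut.congr e.symm β, mem_autInducedBy_iff.mpr
        ⟨(a.symm ⟨t, ht⟩ : T), Subtype.mem _, fun x => ?_⟩, (MulAut.congr e).apply_symm_apply β⟩
      have h1 : a ⟨(MulAut.congr e.symm β x : Q), hQT (MulAut.congr e.symm β x).2⟩ =
          a ((a.symm ⟨t, ht⟩) * ⟨x, hQT x.2⟩ * (a.symm ⟨t, ht⟩)⁻¹) := by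
        refine Subtype.ext ?_
        rw [hae _ _ (MulAut.congr e.symm β x).2, map_mul, map_mul, map_inv,
          MulEquiv.apply_symm_apply]
        show ((e (e.symm (β (e x))) : R) : Ω) = t * (a ⟨x, hQT x.2⟩ : T) * t⁻¹
        rw [MulEquiv.apply_symm_apply, htx, hae _ _ x.2]
      exact congrArg Subtype.val (a.injective h1)
  have hle : autInducedBy T Q ≤ (meetSystem h).autGroup Q :=
    autInducedBy_le_autGroup (meetSystem h) hQT
  have hndvd : ¬ p ∣ ((autInducedBy T Q).subgroupOf ((meetSystem h).autGroup Q)).index := by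
    show ¬ p ∣ (autInducedBy T Q).relIndex _
    rw [← Subgroup.relIndex_map_map_of_injective (f := (MulAut.congr e).toMonoidHom) _ _
      (MulEquiv.injective (MulAut.congr e)), hmapT, hmap]
    exact not_dvd_relIndex_meet h hn hR
  exact ⟨((isPGroup_autInducedBy (isPGroup_of_le h.pgroup h.closed.1) Q).comap_of_injective _
    (Subgroup.subtype_injective _)).toSylow hndvd, IsPGroup.toSylow_coe _ _⟩

omit hn hR in
theorem meetSystem_isSaturated : (meetSystem h).IsSaturated p := by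
  haveI := finite_of_le h.closed.1
  refine isSaturated_of_family (isPGroup_of_le h.pgroup h.closed.1) _
    {P | TCentric F (T₁ ⊓ T₂) P} (fun P hP Q hQ => ?_) (fun P hP => exists_good_meet h hP)
    (fun E hE P φ hφ => meetSystem_le h (Y := E) (fun Q hQ β hβ => (mem_autGroup_iff E hQ.1).mpr
      (hE Q hQ ((mem_autGroup_iff _ hQ.1).mp (aGroup_le_meetSystem h hQ hβ)))) hφ)
    fun P hP hnot => absurd (tCentric_of_isCentric (meet_decomp h) hP) hnot
  obtain ⟨φ, hφ, hr⟩ := hQ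
  exact TCentric.of_isConj h.closed hP ⟨φ, meetSystem_isSubsystemOf h P hφ, hr⟩

end CfsgLib.FusionBasics.Meet
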