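import Cfsg.Agent.Lib.FusionBasics.Meet.Order
import Cfsg.Agent.Lib.FusionModels.LocalModel
import Cfsg.Agent.Lib.TwoFusion.TransferMod
import Cfsg.Agent.Lib.FusionBasics.Aut

/-!
In a local model at `Q C_S(Q)` the elements inducing members of a normal subsystem over `T` have
their `p'`-elements in the kernel of the transfer into `S/T`.
-/

set_option autoImplicit false
set_option linter.style.haveILetI false
set_option linter.unusedSectionVars false

namespace CfsgLib.FusionBasics.Meet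

open Cfsg Cfsg.FusionSystem CfsgLib.Alperin CfsgLib.FusionBasics CfsgLib.FusionSub
  CfsgLib.FusionModels

universe u

variable {Ω : Type u} [Group Ω] {S T' : Subgroup Ω}

/-- The automorphisms of `X` inducing a member of `E` on `X ⊓ T` and trivial modulo `T`. -/
def relGroup (E : FusionSystem T') (X : Subgroup Ω) : Subgroup (MulAut X) where
  carrier := {f | RestrictsIn E f ∧ ∀ x : X, (x : Ω)⁻¹ * (f x : X) ∈ T'}
  one_mem' := ⟨RestrictsIn.one E, fun x => by simp⟩
  mul_mem' := by
    rintro f g ⟨hf, hf'⟩ ⟨hg, hg'⟩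
    refine ⟨hf.mul hg, fun x => ?_⟩
    have := T'.mul_mem (hg' x) (hf' (g x))
    rw [mul_assoc, mul_inv_cancel_left] at this
    exact this
  inv_mem' := by
    rintro f ⟨hf, hf'⟩
    refine ⟨hf.inv, fun x => ?_⟩
    have := T'.inv_mem (hf' (f⁻¹ x))
    rw [MulAut.apply_inv_self, mul_inv_rev, inv_inv] at this
    exact this

theorem mem_relGroup {E : FusionSystem T'} {X : Subgroup Ω} {f : MulAut X} :
    f ∈ relGroup E X ↔ RestrictsIn E f ∧ ∀ x : X, (x : Ω)⁻¹ * (f x : X) ∈ T' := Iff.rfl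

theorem congr_mem_relGroup {F : FusionSystem S} {E : FusionSystem T'} (hE : E.IsInvariantIn F)
    {X X' : Subgroup Ω} {e : X ≃* X'} (he : InHom F e) {f : MulAut X} (hf : f ∈ relGroup E X) :
    MulAut.congr e f ∈ relGroup E X' := by
  refine ⟨hf.1.congr hE he, fun y => ?_⟩
  obtain ⟨x, rfl⟩ := e.surjective y
  rw [congr_apply_coe, ← Subgroup.coe_inv, ← Subgroup.coe_mul, ← map_inv, ← map_mul]
  exact (he.mem_iff hE.2.1 _).mp (hf.2 x)

variable [Finite S] {p : ℕ} [Fact p.Prime] {F : FusionSystem S} {E : FusionSystem T'}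
  {T Q : Subgroup Ω} {L : Type*} [Group L] {ι : ↥(normalizerIn S (xset S Q)) →* L}
  {ρ : L →* MulAut (xset S Q)}
variable (hS : IsPGroup p S) (hF : F.IsSaturated p) (hE : E.IsInvariantIn F)
  (hEs : E.IsSaturated p) (hT : F.StronglyClosed T) (hTT : T ≤ T') (hQ : TCentric F T Q)
  (hn : F.IsFullyNormalized Q)
  (hM : IsLocalModel F p (xset S Q) (F.autGroup (xset S Q)) ι ρ)
include hS hF hE hEs hT hTT hQ hn hM

theorem modelSub_normal : ((relGroup E (xset S Q)).comap ρ).Normal := by
  refine ⟨fun l hl g => ?_⟩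
  have hg : ρ g ∈ F.autGroup (xset S Q) := hM.range_eq.le ⟨g, rfl⟩
  show ρ (g * l * g⁻¹) ∈ relGroup E (xset S Q)
  rw [map_mul, map_mul, map_inv]
  exact congr_mem_relGroup hE ((inHom_aut (xset_le hn.1)).mpr hg) hl

/-- An element of `N_S` lying in the model subgroup is in `T' C_S(Q)`. -/
theorem exists_split (m : ↥(normalizerIn S (xset S Q))) (hm : RestrictsIn E (ρ (ι m))) :
    ∃ t ∈ T', ∃ w ∈ centralizerIn S Q, (m : Ω) = t * w := by
  have hT' := hE.2.1
  haveI := finite_of_le hT'.1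
  have hTp : IsPGroup p T' := isPGroup_of_le hS hT'.1
  set U := xset S Q ⊓ T' with hU
  obtain ⟨a, ha, hma⟩ := hm
  rw [hM.map_iota] at hma
  have hUn := inf_xset_fullyNormalized hS hF hT hQ hn hE hTT
  obtain ⟨-, R, hR⟩ := (centralized_automized_of_fullyNormalized hTp hEs hUn).2
  haveI := finite_autGroup E (inf_le_right : U ≤ T')
  have hax : ∀ x : U, ((a x : U) : Ω) = (m : Ω) * x * (m : Ω)⁻¹ := fun x =>
    (hma x x.2.1 x.2).symm
  have haS : a ∈ autInducedBy S U :=
    mem_autInducedBy_iff.mpr ⟨m, m.2.1, hax⟩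
  -- `a` lies in the Sylow subgroup induced by `T'`
  have hle : autInducedBy T' U ≤ autInducedBy S U ⊓ E.autGroup U := fun β hβ => by
    obtain ⟨t, ht, htx⟩ := mem_autInducedBy_iff.mp hβ
    exact ⟨mem_autInducedBy_iff.mpr ⟨t, hT'.1 ht, htx⟩,
      autInducedBy_le_autGroup E inf_le_right hβ⟩
  haveI : Finite ↥(autInducedBy S U ⊓ E.autGroup U) :=
    Finite.of_injective _ (Subgroup.inclusion_injective inf_le_right)
  have heq : autInducedBy T' U = autInducedBy S U ⊓ E.autGroup U := by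
    refine Subgroup.eq_of_le_of_card_ge hle ?_
    refine (card_le_sylow_card_of_le (p := p) inf_le_right
      ((isPGroup_autInducedBy hS U).to_le inf_le_left)).trans ?_
    rw [← R.card_eq_multiplicity, hR, Nat.card_congr
      (Subgroup.subgroupOfEquivOfLe (autInducedBy_le_autGroup E inf_le_right)).toEquiv]
  obtain ⟨t, ht, htx⟩ := mem_autInducedBy_iff.mp (heq.ge ⟨haS, ha⟩)
  refine ⟨t, ht, t⁻¹ * m, ⟨S.mul_mem (S.inv_mem (hT'.1 ht)) m.2.1, fun q hq => ?_⟩,
    (mul_inv_cancel_left t (m : Ω)).symm⟩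
  have hqU : q ∈ U := ⟨le_xset S Q hq, hTT (hQ.1 hq)⟩
  have h1 := (htx ⟨q, hqU⟩).symm.trans (hax ⟨q, hqU⟩)
  calc q * (t⁻¹ * (m : Ω)) = t⁻¹ * (t * q * t⁻¹) * m := by group
    _ = t⁻¹ * ((m : Ω) * q * (m : Ω)⁻¹) * m := by rw [h1]
    _ = t⁻¹ * m * q := by group

/-- Conjugation inside the model subgroup does not change the class modulo `T'`. -/
theorem conj_mod {m m' : ↥(normalizerIn S (xset S Q))} (hm : RestrictsIn E (ρ (ι m))) {a : L}
    (ha : ρ a ∈ relGroup E (xset S Q)) (h : a * ι m * a⁻¹ = ι m') :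
    (m : Ω)⁻¹ * m' ∈ T' := by
  have hT' := hE.2.1
  have hXS : xset S Q ≤ S := xset_le hn.1
  obtain ⟨t, ht, w, hw, hmw⟩ := exists_split hS hF hE hEs hT hTT hQ hn hM m hm
  have hwX : w ∈ xset S Q := centralizerIn_le_xset S Q hw
  have hwN : w ∈ normalizerIn S (xset S Q) := le_normalizerIn hXS hwX
  have htN : t ∈ normalizerIn S (xset S Q) := by
    have := (normalizerIn S (xset S Q)).mul_mem m.2
      ((normalizerIn S (xset S Q)).inv_mem hwN)
    rwa [hmw, mul_inv_cancel_right] at this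
  set w' : xset S Q := ρ a ⟨w, hwX⟩ with hw'
  have hw'N : (w' : Ω) ∈ normalizerIn S (xset S Q) := le_normalizerIn hXS w'.2
  have hconjw := hM.conj_apply a ⟨w, hwX⟩ hwN hw'N
  set y : ↥(normalizerIn S (xset S Q)) := m' * ⟨w', hw'N⟩⁻¹ with hy
  have hconjt : a * ι ⟨t, htN⟩ * a⁻¹ = ι y := by
    have e : (⟨t, htN⟩ : ↥(normalizerIn S (xset S Q))) = m * ⟨w, hwN⟩⁻¹ :=
      Subtype.ext (by rw [Subgroup.coe_mul, Subgroup.coe_inv, hmw, mul_inv_cancel_right])
    rw [e, hy, map_mul, map_mul, map_inv, map_inv, ← h, ← hconjw]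
    group
  -- conjugation by `a` on `⟨t⟩` is a map of the system
  set R := Subgroup.zpowers t with hR
  have hRN : R ≤ normalizerIn S (xset S Q) := Subgroup.zpowers_le.mpr htN
  have key : ∀ x : R, ∃ z : ↥(normalizerIn S (xset S Q)), a * ι ⟨x, hRN x.2⟩ * a⁻¹ = ι z := by
    rintro ⟨_, n, rfl⟩
    refine ⟨y ^ n, ?_⟩
    rw [map_zpow, ← hconjt, conj_zpow, ← map_zpow]
    exact congrArg (fun z => a * ι z * a⁻¹) (Subtype.ext (by simp))
  choose z hz using key
  let φ : R →* Ω :=
    { toFun := fun x => (z x : Ω)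
      map_one' := by
        rw [show z 1 = 1 from hM.inj (by
          rw [← hz, show (⟨((1 : R) : Ω), hRN (1 : R).2⟩ : ↥(normalizerIn S (xset S Q))) = 1 from rfl,
            map_one, mul_one, mul_inv_cancel])]
        rfl
      map_mul' := fun x x' => by
        rw [show z (x * x') = z x * z x' from hM.inj (by
          rw [← hz, map_mul, ← hz, ← hz,
            show (⟨((x * x' : R) : Ω), hRN (x * x').2⟩ : ↥(normalizerIn S (xset S Q))) =
              ⟨x, hRN x.2⟩ * ⟨x', hRN x'.2⟩ from rfl, map_mul]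
          group)]
        rfl }
  have hφ : φ ∈ F.Hom R := hM.hom a R hRN φ fun x => ⟨(z x).2, hz x⟩
  have hyT : (y : Ω) ∈ T' := by
    have := stronglyClosed_apply hT' hφ ⟨t, Subgroup.mem_zpowers t⟩ ht
    rwa [show φ ⟨t, Subgroup.mem_zpowers t⟩ = (y : Ω) from
      congrArg Subtype.val (hM.inj ((hz _).symm.trans hconjt))] at this
  have hm' : (m' : Ω) = (y : Ω) * (w' : Ω) := by
    rw [hy]
    simp
  have h2 : w⁻¹ * (w' : Ω) ∈ T' := ha.2 ⟨w, hwX⟩
  have hNm : w⁻¹ ∈ Subgroup.normalizer (T' : Set Ω) :=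
    stronglyClosed_le_normalizer hT' (S.inv_mem hw.1)
  rw [hmw, hm', show (t * w)⁻¹ * ((y : Ω) * (w' : Ω)) =
    (w⁻¹ * (t⁻¹ * y) * w⁻¹⁻¹) * (w⁻¹ * w') by group]
  exact T'.mul_mem (mem_normalizer_conj hNm (T'.mul_mem (T'.inv_mem ht) hyT)) h2

/-- An element of `N_S` in a subgroup of the model subgroup made of `p'`-elements and conjugates of
elements of `T'` lies in `T'`. -/
theorem mem_of_mem_closure {Gn : Set L} (hG : ∀ l ∈ Gn, ρ l ∈ relGroup E (xset S Q) ∧
      ((orderOf l).Coprime p ∨ ∃ g : L, ∃ t : ↥(normalizerIn S (xset S Q)), (t : Ω) ∈ T' ∧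
        l = g * ι t * g⁻¹))
    (m : ↥(normalizerIn S (xset S Q))) (hm : ι m ∈ Subgroup.closure Gn) : (m : Ω) ∈ T' := by
  have hT' := hE.2.1
  haveI := hM.finite
  set M := (relGroup E (xset S Q)).comap ρ with hMdef
  haveI hMn : M.Normal := modelSub_normal hS hF hE hEs hT hTT hQ hn hM
  have hKM : Subgroup.closure Gn ≤ M := (Subgroup.closure_le _).mpr fun l hl => (hG l hl).1
  set H : Subgroup M := ι.range.subgroupOf M with hH
  -- the index of `H` is prime to `p`
  have hidx : ¬ p ∣ H.index := by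
    have h1 : ¬ p ∣ ι.range.relIndex (⊤ : Subgroup L) := by
      rw [Subgroup.relIndex_top_right]; exact hM.index
    exact not_dvd_relIndex_of_le le_top le_top (Subgroup.normalizer_eq_top (H := M) ▸ le_top) h1
  haveI hN : (T'.subgroupOf S).Normal := Subgroup.normal_subgroupOf_iff_le_normalizer hT'.1 |>.mpr
    (stronglyClosed_le_normalizer hT')
  have hinv : ∀ g : H, ∃ m : ↥(normalizerIn S (xset S Q)), ι m = ((g : M) : L) := fun g => g.2
  choose v hv using hinv
  let π : H →* S ⧸ T'.subgroupOf S :=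
    { toFun := fun g => QuotientGroup.mk ⟨(v g : Ω), (v g).2.1⟩
      map_one' := by
        rw [show v 1 = 1 from hM.inj ((hv 1).trans (map_one ι).symm)]
        rfl
      map_mul' := fun g g' => by
        rw [show v (g * g') = v g * v g' from hM.inj (by
          rw [hv, map_mul, hv, hv]; rfl)]
        rfl }
  have hvR : ∀ g : H, RestrictsIn E (ρ (ι (v g))) := fun g => by
    rw [hv]; exact (g : M).2.1
  have key : ∀ (g : H) (a : M) (hga : a * (g : M) * a⁻¹ ∈ H), π ⟨a * g * a⁻¹, hga⟩ = π g := by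
    intro g a hga
    have h := conj_mod hS hF hE hEs hT hTT hQ hn hM (m := v g) (m' := v ⟨a * g * a⁻¹, hga⟩)
      (hvR g) a.2 (by rw [hv, hv]; rfl)
    exact ((QuotientGroup.eq (s := T'.subgroupOf S) (a := (⟨(v g : Ω), (v g).2.1⟩ : S))
      (b := ⟨(v ⟨a * g * a⁻¹, hga⟩ : Ω), (v ⟨a * g * a⁻¹, hga⟩).2.1⟩)).mpr h).symm
  have hcomm : ∀ x y : π.range, x * y = y * x := by
    rintro ⟨_, g, rfl⟩ ⟨_, g', rfl⟩
    refine Subtype.ext ?_
    show π g * π g' = π g' * π g
    have h := key g' (g : M) (H.mul_mem (H.mul_mem g.2 g'.2) (H.inv_mem g.2))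
    have e : (⟨(g : M) * g' * (g : M)⁻¹, H.mul_mem (H.mul_mem g.2 g'.2) (H.inv_mem g.2)⟩ : H) =
        g * g' * g⁻¹ := rfl
    rw [e, map_mul, map_mul, map_inv, mul_inv_eq_iff_eq_mul] at h
    exact h
  letI : CommGroup π.range := { (inferInstance : Group π.range) with mul_comm := hcomm }
  let φ : H →* π.range := π.rangeRestrict
  have hAp : IsPGroup p π.range := (hS.to_quotient _).to_subgroup _
  let ν : M →* π.range := φ.transfer
  -- controlled elements
  have hcontr : ∀ g : H, ν (g : M) = φ g ^ H.index := by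
    intro g
    refine CfsgLib.TwoFusion.transfer_eq_pow_of_controlled φ (g : M) g.2 fun k a hka => ?_
    refine Subtype.ext ?_
    have h := key (g ^ k) a hka
    rw [map_pow] at h
    exact h
  have hone : ∀ g : H, ν (g : M) = 1 → ((v g : Ω) ∈ T') := by
    intro g hg
    rw [hcontr] at hg
    obtain ⟨k, hk⟩ := hAp (φ g)
    have h1 : φ g = 1 := by
      rw [← orderOf_eq_one_iff]
      exact Nat.eq_one_of_dvd_coprimes
        (Nat.Coprime.pow_left k ((Fact.out : p.Prime).coprime_iff_not_dvd.mpr hidx))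
        (orderOf_dvd_of_pow_eq_one hk) (orderOf_dvd_of_pow_eq_one hg)
    have h2 : π g = 1 := congrArg Subtype.val h1
    exact (QuotientGroup.eq_one_iff (N := T'.subgroupOf S) (⟨(v g : Ω), (v g).2.1⟩ : S)).mp h2
  -- the generators are in the kernel
  have hker : Subgroup.closure Gn ≤ ν.ker.map M.subtype := by
    refine (Subgroup.closure_le _).mpr fun l hl => ?_
    refine ⟨⟨l, (hG l hl).1⟩, MonoidHom.mem_ker.mpr ?_, rfl⟩
    rcases (hG l hl).2 with hc | ⟨g, t, ht, rfl⟩
    · rw [← orderOf_eq_one_iff]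
      obtain ⟨k, hk⟩ := hAp (ν ⟨l, (hG l hl).1⟩)
      refine Nat.eq_one_of_dvd_coprimes (Nat.Coprime.pow_left k hc.symm)
        (orderOf_dvd_of_pow_eq_one hk) ?_
      exact (orderOf_map_dvd ν _).trans
        (dvd_of_eq (orderOf_injective M.subtype M.subtype_injective _).symm)
    · set l := g * ι t * g⁻¹ with hldef
      set l' : M := ⟨l, (hG l hl).1⟩ with hl'
      have hp : IsPGroup p (Subgroup.zpowers l') := by
        obtain ⟨k, hk⟩ := isPGroup_of_le hS (normalizerIn_le S (xset S Q)) t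
        have hl1 : l ^ p ^ k = 1 := by
          rw [hldef, conj_pow, ← map_pow, hk, map_one, mul_one, mul_inv_cancel]
        rintro ⟨_, n, rfl⟩
        refine ⟨k, Subtype.ext (Subtype.ext ?_)⟩
        show (l ^ n) ^ (p ^ k) = 1
        rw [← zpow_natCast, ← zpow_mul, mul_comm, zpow_mul, zpow_natCast, hl1, one_zpow]
      have hHp : IsPGroup p H :=
        ((isPGroup_of_le hS (normalizerIn_le S (xset S Q))).of_surjective ι.rangeRestrict
          ι.rangeRestrict_surjective).comap_of_injective M.subtype M.subtype_injective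
      obtain ⟨a, -, ha⟩ := exists_conj_le (p := p) (M := (⊤ : Subgroup M)) (R := H)
        (B := Subgroup.zpowers l') le_top (by
          have := (hHp.toSylow hidx).card_eq_multiplicity
          rwa [IsPGroup.toSylow_coe, ← Subgroup.card_top (G := M)] at this) le_top hp
      have hgH : a * l' * a⁻¹ ∈ H := ha _ (Subgroup.mem_zpowers l')
      set g' : H := ⟨a * l' * a⁻¹, hgH⟩ with hg'
      have e : ν l' = ν (g' : M) := by
        show ν l' = ν (a * l' * a⁻¹)
        rw [map_mul, map_mul, map_inv, mul_comm (ν a), mul_inv_cancel_right]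
      rw [e, hcontr]
      -- the image is in `T'`
      have hvT : (v g' : Ω) ∈ T' := by
        have hval : ((a : L) * g) * ι t * ((a : L) * g)⁻¹ = ι (v g') := by
          rw [hv]
          show _ = (a : L) * (g * ι t * g⁻¹) * (a : L)⁻¹
          group
        set R := Subgroup.zpowers (t : Ω) with hR
        have hRN : R ≤ normalizerIn S (xset S Q) := Subgroup.zpowers_le.mpr t.2
        have key : ∀ x : R, ∃ z : ↥(normalizerIn S (xset S Q)),
            ((a : L) * g) * ι ⟨x, hRN x.2⟩ * ((a : L) * g)⁻¹ = ι z := by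
          rintro ⟨_, n, rfl⟩
          refine ⟨(v g') ^ n, ?_⟩
          rw [map_zpow, ← hval, conj_zpow, ← map_zpow]
          exact congrArg (fun z => ((a : L) * g) * ι z * ((a : L) * g)⁻¹) (Subtype.ext (by simp))
        choose z hz using key
        let χ : R →* Ω :=
          { toFun := fun x => (z x : Ω)
            map_one' := by
              rw [show z 1 = 1 from hM.inj (by
                rw [← hz, show (⟨((1 : R) : Ω), hRN (1 : R).2⟩ : ↥(normalizerIn S (xset S Q))) = 1
                  from rfl, map_one, mul_one, mul_inv_cancel])]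
              rfl
            map_mul' := fun x x' => by
              rw [show z (x * x') = z x * z x' from hM.inj (by
                rw [← hz, map_mul, ← hz, ← hz,
                  show (⟨((x * x' : R) : Ω), hRN (x * x').2⟩ : ↥(normalizerIn S (xset S Q))) =
                    ⟨x, hRN x.2⟩ * ⟨x', hRN x'.2⟩ from rfl, map_mul]
                group)]
              rfl }
        have hχ : χ ∈ F.Hom R := hM.hom _ R hRN χ fun x => ⟨(z x).2, hz x⟩
        have := stronglyClosed_apply hT' hχ ⟨t, Subgroup.mem_zpowers (t : Ω)⟩ ht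
        rwa [show χ ⟨(t : Ω), Subgroup.mem_zpowers (t : Ω)⟩ = (v g' : Ω) from
          congrArg Subtype.val (hM.inj ((hz _).symm.trans hval))] at this
      rw [show φ g' = 1 from Subtype.ext ((QuotientGroup.eq_one_iff _).mpr hvT), one_pow]
  obtain ⟨l, hl, hlm⟩ := hker hm
  have hlH : l ∈ H := ⟨m, hlm.symm⟩
  have := hone ⟨l, hlH⟩ (MonoidHom.mem_ker.mp hl)
  rwa [show v ⟨l, hlH⟩ = m from hM.inj ((hv _).trans hlm)] at this

end CfsgLib.FusionBasics.Meet
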