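import Cfsg.Agent.Lib.FusionBasics.Meet.Model

/-!
Automorphisms of `p'`-order of a fully normalized `R` extend to the subgroups of `N_T(R)` whose
action they normalize.
-/

set_option autoImplicit false
set_option linter.style.haveILetI false
set_option linter.unusedSectionVars false
set_option maxHeartbeats 800000

namespace CfsgLib.FusionBasics.Meet

open Cfsg Cfsg.FusionSystem CfsgLib.Alperin CfsgLib.FusionBasics CfsgLib.FusionSub
  CfsgLib.FusionModels

universe u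

variable {Ω : Type u} [Group Ω] {S T' T₁ T₂ : Subgroup Ω} [Finite S] {p : ℕ} [Fact p.Prime]
  {F : FusionSystem S} {E₁ : FusionSystem T₁} {E₂ : FusionSystem T₂}

theorem orderOf_dvd_of_agree {R A : Subgroup Ω} {f : MulAut R} {a : MulAut A} (h : Agree f a)
    (hAR : A ≤ R) : orderOf a ∣ orderOf f := by
  refine orderOf_dvd_of_pow_eq_one ((h.pow (orderOf f)).eq ?_ hAR)
  rw [pow_orderOf_eq_one]
  exact agree_one

/-- The relative group passes to `W' ⊇` the subgroup where it is known, along an isomorphism. -/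
theorem restrictsIn_of_big {E : FusionSystem T'} (h : MeetData F E₁ E₂ p)
    (hE : E.IsInvariantIn F) (hEs : E.IsSaturated p) (hTT : T₁ ⊓ T₂ ≤ T') {R Y Y' A : Subgroup Ω}
    (hR : TCentric F (T₁ ⊓ T₂) R) (hn : F.IsFullyNormalized R) (hY : Y ≤ S)
    (hXY : xset S R ≤ Y) (hYN : Y ≤ normalizerIn S (xset S R)) {b : MulAut Y}
    (hb : b ∈ F.autGroup Y) (hord : (orderOf b).Coprime p) {ψX : MulAut (xset S R)}
    (hbX : Agree b ψX) (hψX : RestrictsIn E ψX) {f : Y ≃* Y'} (hf : InHom F f) (hAY : A ≤ Y')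
    {ψ : MulAut A} (hψ : Agree (MulAut.congr f b) ψ) : RestrictsIn E ψ := by
  have hT' := hE.2.1
  haveI := finite_of_le hT'.1
  obtain ⟨bW, hbW, hbWa⟩ := exists_autAgree (A := Y ⊓ T') hb hY inf_le_left fun x hx hxW =>
    ⟨(b ⟨x, hx⟩).2, (((inHom_aut hY).mpr hb).mem_iff hT' ⟨x, hx⟩).mp hxW.2⟩
  obtain ⟨a, ha, hψa⟩ := hψX
  have hU : xset S R ⊓ T' ≤ Y ⊓ T' := inf_le_inf_right _ hXY
  have hbWU : Agree bW a := fun x hW hA =>
    (hbWa x hW.1 hW).symm.trans ((hbX x hW.1 hA.1).trans (hψa x hA.1 hA))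
  have hbWE : bW ∈ E.autGroup (Y ⊓ T') := by
    refine mem_autGroup_of_restrict h.pgroup hE hEs inf_le_right hU ?_
      (inf_xset_centric h.pgroup h.saturated h.closed hR hn hE hTT)
      (inf_xset_fullyNormalized h.pgroup h.saturated h.closed hR hn hE hTT) hbW
      (Nat.Coprime.coprime_dvd_left (orderOf_dvd_of_agree hbWa inf_le_left) hord) ha hbWU
    exact fun g hg => mem_normalizer_inf (hYN hg.1).2
      (stronglyClosed_le_normalizer hT' (hY hg.1))
  obtain ⟨u, hu, hfu⟩ := exists_restrict hf inf_le_left (hf.map_inf hT')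
  have hcW := congr_mem_sub hE hu inf_le_right hbWE
  have hag : Agree (MulAut.congr f b) (MulAut.congr u bW) := hbWa.congr hfu inf_le_left
  obtain ⟨a', ha', haa'⟩ := exists_autAgree (A := A ⊓ T') hcW inf_le_right
    (inf_le_inf_right _ hAY) fun x hx hxA => by
      refine ⟨?_, (MulAut.congr u bW ⟨x, hx⟩).2.2⟩
      rw [← hag x hx.1 hx, hψ x hx.1 hxA.1]
      exact (ψ _).2
  exact ⟨a', ha', fun x hA hAT => (hψ x (hAY hA) hA).symm.trans
    ((hag x (hAY hA) ⟨hAY hA, hAT.2⟩).trans (haa' x ⟨hAY hA, hAT.2⟩ hAT))⟩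

/-- An automorphism of order prime to `p` in `Aut_D(R)` normalizing `Aut_V(R)` extends to a member
of `Aut_D(V)`. -/
theorem exists_up (h : MeetData F E₁ E₂ p) {R V : Subgroup Ω} (hR : TCentric F (T₁ ⊓ T₂) R)
    (hn : F.IsFullyNormalized R) (hRV : R ≤ V) (hVT : V ≤ T₁ ⊓ T₂)
    (hVN : V ≤ Subgroup.normalizer (R : Set Ω)) {m : MulAut R} (hm : m ∈ aGroup F E₁ E₂ p R)
    (hord : (orderOf m).Coprime p)
    (hmV : ∀ v ∈ V, ∀ hv : v ∈ Subgroup.normalizer (R : Set Ω),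
      m * conjAut R v hv * m⁻¹ ∈ autInducedBy V R) :
    ∃ k ∈ aGroup F E₁ E₂ p V, Agree k m := by
  obtain ⟨L, hL, ι, ρ, d⟩ := exists_modelData h hR hn
  haveI := d.model.finite
  let X := xset S R
  let N := normalizerIn S X
  have hTS := h.closed.1
  have hVS : V ≤ S := hVT.trans hTS
  have hXS : X ≤ S := xset_le hn.1
  have hVN' : V ≤ N := fun v hv => d.normalizer_eq.ge ⟨hVS hv, hVN hv⟩
  set K := kSub E₁ E₂ p ι ρ with hK
  haveI := d.kSub_normal
  set IV : Subgroup L := (V.subgroupOf N).map ι with hIV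
  set Kr : Subgroup L := K ⊓ d.res.ker with hKr
  haveI : Kr.Normal := ⟨fun n hn g => ⟨‹K.Normal›.conj_mem n hn.1 g,
    (inferInstance : d.res.ker.Normal).conj_mem n hn.2 g⟩⟩
  have hIVK : IV ≤ K := by
    rintro _ ⟨v, hv, rfl⟩
    exact d.iota_mem_kSub (hVT hv)
  obtain ⟨l₀, hl₀K, hl₀⟩ := d.aGroup_le_map hm
  set J := IV ⊔ Kr with hJ
  have hconjJ : ∀ x ∈ IV, l₀ * x * l₀⁻¹ ∈ J := by
    rintro _ ⟨v, hv, rfl⟩
    have hvR : (v : Ω) ∈ Subgroup.normalizer (R : Set Ω) := (d.normalizer_eq.le v.2).2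
    obtain ⟨v', hv', hv'x⟩ := mem_autInducedBy_iff.mp (hmV v hv hvR)
    have hres : d.res (ι v) = conjAut R v hvR :=
      MulEquiv.ext fun q => Subtype.ext (d.res_iota v q)
    have hmem : (ι ⟨v', hVN' hv'⟩)⁻¹ * (l₀ * ι v * l₀⁻¹) ∈ Kr := by
      refine ⟨K.mul_mem (K.inv_mem (d.iota_mem_kSub (hVT hv')))
        (K.mul_mem (K.mul_mem hl₀K (d.iota_mem_kSub (hVT hv))) (K.inv_mem hl₀K)),
        MonoidHom.mem_ker.mpr ?_⟩
      rw [map_mul, map_inv, map_mul, map_mul, map_inv, hl₀, hres, inv_mul_eq_one]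
      exact MulEquiv.ext fun q => Subtype.ext ((d.res_iota ⟨v', hVN' hv'⟩ q).trans (hv'x q).symm)
    have h2 := Subgroup.mul_mem_sup (show ι ⟨v', hVN' hv'⟩ ∈ IV from ⟨_, hv', rfl⟩) hmem
    rwa [mul_inv_cancel_left] at h2
  -- `IV` is a Sylow subgroup of `J`
  have hIVp : IsPGroup p IV :=
    ((isPGroup_of_le h.pgroup (normalizerIn_le S X)).to_subgroup _).map ι
  have hnd : ¬ p ∣ IV.relIndex J := by
    rw [hJ, relIndex_sup_of_le_normalizer (Subgroup.normalizer_eq_top (H := Kr) ▸ le_top)]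
    have h1 : ¬ p ∣ ι.range.relIndex (⊤ : Subgroup L) := by
      rw [Subgroup.relIndex_top_right]; exact d.model.index
    have h2 := not_dvd_relIndex_of_le (N := ι.range) (C := Kr) le_top le_top
      (Subgroup.normalizer_eq_top (H := Kr) ▸ le_top) h1
    intro hd
    refine h2 (hd.trans ?_)
    rw [← Subgroup.inf_relIndex_right IV, ← Subgroup.inf_relIndex_right ι.range]
    refine Subgroup.relIndex_dvd_of_le_left _ (le_inf ?_ inf_le_right)
    rintro _ ⟨⟨x, rfl⟩, hxK, hxker⟩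
    refine ⟨x, hRV (hR.2 R (isConj_refl F hn.1) ⟨d.mem_of_mem_kSub hxK, fun q hq => ?_⟩), rfl⟩
    have h3 : (x : Ω) * q * (x : Ω)⁻¹ = q := by
      rw [← d.res_iota x ⟨q, hq⟩, MonoidHom.mem_ker.mp hxker]
      rfl
    exact (mul_inv_eq_iff_eq_mul.mp h3).symm
  have hcard : Nat.card IV = p ^ (Nat.card J).factorization p := by
    have hp' : IsPGroup p (IV.subgroupOf J) := hIVp.comap_of_injective _ J.subtype_injective
    have := (hp'.toSylow (show ¬ p ∣ (IV.subgroupOf J).index from hnd)).card_eq_multiplicity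
    rwa [IsPGroup.toSylow_coe,
      Nat.card_congr (Subgroup.subgroupOfEquivOfLe (le_sup_left : IV ≤ J)).toEquiv] at this
  obtain ⟨j, hj, hjx⟩ := exists_conj_le (p := p) (M := J) (R := IV)
    (B := IV.map (MulAut.conj l₀).toMonoidHom) le_sup_left hcard
    (by rintro _ ⟨x, hx, rfl⟩; exact hconjJ x hx) (hIVp.map _)
  obtain ⟨v, hv, k, hk, rfl⟩ := Subgroup.mem_sup_of_normal_right.mp hj
  set l := k * l₀ with hldef
  have hlK : l ∈ K := K.mul_mem hk.1 hl₀K
  have hlres : d.res l = m := by rw [map_mul, MonoidHom.mem_ker.mp hk.2, one_mul, hl₀]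
  have hlIV : ∀ x ∈ IV, l * x * l⁻¹ ∈ IV := by
    intro x hx
    have h1 := hjx _ ⟨x, hx, rfl⟩
    have h2 := IV.mul_mem (IV.mul_mem (IV.inv_mem hv) h1) hv
    have e : v⁻¹ * (v * k * (MulAut.conj l₀).toMonoidHom x * (v * k)⁻¹) * v = l * x * l⁻¹ := by
      show v⁻¹ * (v * k * (l₀ * x * l₀⁻¹) * (v * k)⁻¹) * v = k * l₀ * x * (k * l₀)⁻¹
      group
    rwa [e] at h2
  obtain ⟨c, hc, hcres⟩ := exists_pPrime_lift (p := p) d.res l (hlres.symm ▸ hord)
  rw [hlres] at hcres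
  set l' := l ^ c with hl'
  have hl'K : l' ∈ K := K.pow_mem hlK c
  have hl'IV : ∀ x ∈ IV, l' * x * l'⁻¹ ∈ IV := by
    rw [hl']
    clear_value l
    induction c with
    | zero => intro x hx; simpa using hx
    | succ n ih' =>
      intro x hx
      have key : ∀ n : ℕ, ∀ x ∈ IV, l ^ n * x * (l ^ n)⁻¹ ∈ IV := by
        intro n
        induction n with
        | zero => intro x hx; simpa using hx
        | succ n ih =>
          intro x hx
          have := ih _ (hlIV x hx)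
          rwa [show l ^ n * (l * x * l⁻¹) * (l ^ n)⁻¹ = l ^ (n + 1) * x * (l ^ (n + 1))⁻¹ by
            rw [pow_succ]; group] at this
      exact key _ x hx
  have hKrel : ρ l' ∈ relGroup E₁ X ∧ ρ l' ∈ relGroup E₂ X := by
    have hle : K ≤ (relGroup E₁ X ⊓ relGroup E₂ X).comap ρ :=
      (Subgroup.closure_le _).mpr fun y hy => hy.1
    exact hle hl'K
  -- the automorphism of `Y = V X`
  set Y := V ⊔ X with hYdef
  have hYN : Y ≤ N := sup_le hVN' (le_normalizerIn hXS)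
  have hYS : Y ≤ S := sup_le hVS hXS
  have hXl : ∀ q : X, l' * ι ⟨q, le_normalizerIn hXS q.2⟩ * l'⁻¹ =
      ι ⟨(ρ l' q : X), le_normalizerIn hXS (ρ l' q).2⟩ := fun q =>
    d.model.conj_apply l' q _ _
  have hYconj : (Y.subgroupOf N).map ι ≤
      ((Y.subgroupOf N).map ι).comap (MulAut.conj l').toMonoidHom := by
    rw [hYdef, Subgroup.subgroupOf_sup hVN' (le_normalizerIn hXS), Subgroup.map_sup]
    refine sup_le (fun x hx => ?_) ?_
    · exact Subgroup.mem_sup_left (hl'IV x hx)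
    · rintro _ ⟨q, hq, rfl⟩
      refine Subgroup.mem_sup_right ?_
      show l' * ι q * l'⁻¹ ∈ _
      rw [show q = (⟨((⟨q, hq⟩ : X) : Ω), le_normalizerIn hXS hq⟩ : N) from rfl, hXl]
      exact ⟨_, (ρ l' ⟨q, hq⟩).2, rfl⟩
  have key : ∀ y : Y, ∃ z : N, (z : Ω) ∈ Y ∧ l' * ι ⟨y, hYN y.2⟩ * l'⁻¹ = ι z := by
    intro y
    obtain ⟨z, hz, hzy⟩ := hYconj ⟨⟨y, hYN y.2⟩, y.2, rfl⟩
    exact ⟨z, hz, hzy.symm⟩
  choose z hzY hz using key
  let φ : Y →* Ω :=
    { toFun := fun y => (z y : Ω)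
      map_one' := by
        rw [show z 1 = 1 from d.model.inj (by
          rw [← hz, show (⟨((1 : Y) : Ω), hYN (1 : Y).2⟩ : N) = 1 from rfl, map_one, mul_one,
            mul_inv_cancel])]
        rfl
      map_mul' := fun y y' => by
        rw [show z (y * y') = z y * z y' from d.model.inj (by
          rw [← hz, map_mul, ← hz, ← hz,
            show (⟨((y * y' : Y) : Ω), hYN (y * y').2⟩ : N) = ⟨y, hYN y.2⟩ * ⟨y', hYN y'.2⟩
              from rfl, map_mul]
          group)]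
        rfl }
  have hφ : φ ∈ F.Hom Y := d.model.hom l' Y hYN φ fun y => ⟨(z y).2, hz y⟩
  haveI := finite_of_le hYS
  obtain ⟨b, hb, hbx⟩ := exists_aut_of_hom' F hφ fun y => hzY y
  have hbι : ∀ y : Y, ι ⟨(b y : Y), hYN (b y).2⟩ = l' * ι ⟨y, hYN y.2⟩ * l'⁻¹ := fun y => by
    rw [hz]
    exact congrArg ι (Subtype.ext (hbx y))
  have hbord : (orderOf b).Coprime p := by
    refine Nat.Coprime.coprime_dvd_left (orderOf_dvd_of_pow_eq_one ?_) hc
    have hpow : ∀ (n : ℕ) (y : Y),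
        ι ⟨((b ^ n) y : Y), hYN ((b ^ n) y).2⟩ = l' ^ n * ι ⟨y, hYN y.2⟩ * (l' ^ n)⁻¹ := by
      intro n
      induction n with
      | zero => intro y; simp
      | succ n ih =>
        intro y
        have h1 := ih (b y)
        rw [hbι] at h1
        refine Eq.trans ?_ (h1.trans ?_)
        · exact congrArg ι (Subtype.ext (by rw [pow_succ, MulAut.mul_apply]))
        · rw [pow_succ]; group
    refine MulEquiv.ext fun y => Subtype.ext ?_
    have h1 := hpow (orderOf l') y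
    rw [pow_orderOf_eq_one, one_mul, inv_one, mul_one] at h1
    exact congrArg (fun w : N => (w : Ω)) (d.model.inj h1)
  have hbX : Agree b (ρ l') := by
    intro x hY hX
    refine congrArg Subtype.val (d.model.inj ((hbι ⟨x, hY⟩).trans (hXl ⟨x, hX⟩)))
  have hbV : ∀ (x : Ω) (hY : x ∈ Y), x ∈ V → ((b ⟨x, hY⟩ : Y) : Ω) ∈ V := by
    intro x hY hV
    obtain ⟨w, hw, hwe⟩ := hl'IV _ ⟨⟨x, hVN' hV⟩, hV, rfl⟩
    have := d.model.inj (hwe.trans (hbι ⟨x, hY⟩).symm)
    rw [this] at hw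
    exact hw
  have hbdisp : ∀ y : Y, (y : Ω)⁻¹ * (b y : Y) ∈ T₁ ⊓ T₂ := by
    let D : Subgroup Y :=
      { carrier := {y | (y : Ω)⁻¹ * (b y : Y) ∈ T₁ ⊓ T₂}
        one_mem' := by simp
        mul_mem' := fun {y y'} hy hy' => by
          show ((y * y' : Y) : Ω)⁻¹ * ((b (y * y') : Y) : Ω) ∈ T₁ ⊓ T₂
          rw [map_mul, show ((y * y' : Y) : Ω)⁻¹ * ((b y * b y' : Y) : Ω) =
            ((y' : Ω)⁻¹ * ((y : Ω)⁻¹ * (b y : Y)) * (y' : Ω)⁻¹⁻¹) * ((y' : Ω)⁻¹ * (b y' : Y)) by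
              rw [Subgroup.coe_mul, Subgroup.coe_mul]; group]
          exact Subgroup.mul_mem _ (stronglyClosed_conj h.closed (S.inv_mem (hYS y'.2)) hy) hy'
        inv_mem' := fun {y} hy => by
          show ((y⁻¹ : Y) : Ω)⁻¹ * ((b y⁻¹ : Y) : Ω) ∈ T₁ ⊓ T₂
          rw [map_inv, show ((y⁻¹ : Y) : Ω)⁻¹ * (((b y)⁻¹ : Y) : Ω) =
            (y : Ω) * ((y : Ω)⁻¹ * (b y : Y))⁻¹ * (y : Ω)⁻¹ by
              rw [Subgroup.coe_inv, Subgroup.coe_inv]; group]
          exact stronglyClosed_conj h.closed (hYS y.2) (Subgroup.inv_mem _ hy) }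
    intro y
    have hD : V ⊔ X ≤ D.map Y.subtype := by
      refine sup_le (fun x hx => ⟨⟨x, Subgroup.mem_sup_left hx⟩, ?_, rfl⟩)
        (fun x hx => ⟨⟨x, Subgroup.mem_sup_right hx⟩, ?_, rfl⟩)
      · exact mul_mem (Subgroup.inv_mem _ (hVT hx)) (hVT (hbV x _ hx))
      · show x⁻¹ * ((b ⟨x, _⟩ : Y) : Ω) ∈ T₁ ⊓ T₂
        rw [hbX x _ hx]
        exact ⟨hKrel.1.2 ⟨x, hx⟩, hKrel.2.2 ⟨x, hx⟩⟩
    obtain ⟨w, hw, hwy⟩ := hD y.2
    exact (Subtype.ext hwy : w = y) ▸ hw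
  obtain ⟨kA, -, hbk⟩ := exists_autAgree (A := V) hb hYS le_sup_left fun x hx hxV => hbV x hx hxV
  have hkm : Agree kA m := by
    intro x hV hRx
    rw [← hbk x (Subgroup.mem_sup_left hV) hV, hbX x _ (le_xset S R hRx), ← hcres]
    rfl
  -- push to a fully normalized conjugate of `V`
  obtain ⟨V', hVV', hV'n⟩ := exists_isFullyNormalized F hVS
  obtain ⟨η, hη, -, hηm⟩ :=
    exists_hom_normalizerIn_of_fullyNormalized h.pgroup h.saturated hV'n hVV'
  have hCV : ∀ c ∈ centralizerIn S R, ∀ x ∈ V, c * x * c⁻¹ ∈ V := by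
    intro c hc x hx
    have h1 : c * x * c⁻¹ * x⁻¹ ∈ R := by
      refine hR.2 R (isConj_refl F hn.1) ⟨?_, ?_⟩
      · exact Subgroup.mul_mem _ (stronglyClosed_conj h.closed hc.1 (hVT hx)) (Subgroup.inv_mem _ (hVT hx))
      · have hxc : x * c⁻¹ * x⁻¹ ∈ Subgroup.centralizer (R : Set Ω) := by
          intro q hq
          have h2 := Subgroup.inv_mem _ hc.2 _
            (mem_normalizer_conj (Subgroup.inv_mem _ (hVN hx)) hq)
          calc q * (x * c⁻¹ * x⁻¹) = x * ((x⁻¹ * q * x⁻¹⁻¹) * c⁻¹) * x⁻¹ := by group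
            _ = x * (c⁻¹ * (x⁻¹ * q * x⁻¹⁻¹)) * x⁻¹ := by rw [h2]
            _ = x * c⁻¹ * x⁻¹ * q := by group
        have := Subgroup.mul_mem _ hc.2 hxc
        rwa [show c * (x * c⁻¹ * x⁻¹) = c * x * c⁻¹ * x⁻¹ by group] at this
    have := V.mul_mem (hRV h1) hx
    rwa [inv_mul_cancel_right] at this
  have hYV : Y ≤ normalizerIn S V := by
    refine sup_le (le_normalizerIn hVS) (sup_le (hRV.trans (le_normalizerIn hVS)) ?_)
    intro c hc
    refine ⟨hc.1, Subgroup.mem_normalizer_iff.mpr fun x => ⟨hCV c hc x, fun hx => ?_⟩⟩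
    have := hCV c⁻¹ ((centralizerIn S R).inv_mem hc) _ hx
    simpa [mul_assoc] using this
  set Y' := (Y.subgroupOf (normalizerIn S V)).map η with hY'
  obtain ⟨f, hf, hfx⟩ := exists_iso hη hYV (rfl : _ = Y')
  obtain ⟨e, he, hex⟩ := exists_iso hη (le_normalizerIn hVS) hηm
  have hfe : Agree f e := fun x hY hV => (hfx ⟨x, hY⟩).trans (hex ⟨x, hV⟩).symm
  have hY'S : Y' ≤ S := CfsgLib.Alperin.IsConj.right_le (InHom.isConj hf)
  have hA : xset S V' ≤ Y' := by
    refine sup_le (hηm.ge.trans (Subgroup.map_mono (Subgroup.comap_mono le_sup_left))) ?_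
    have hR0 : R ≤ normalizerIn S V := le_trans hRV (le_normalizerIn hVS)
    set R' := (R.subgroupOf (normalizerIn S V)).map η with hR'
    have hconjR : F.IsConj R R' := ⟨_, restrict_mem hη hR0, range_comp_inclusion η hR0⟩
    have hCR : centralizerIn S R ≤ normalizerIn S V :=
      (centralizerIn_le_xset S R).trans (le_sup_right.trans hYV)
    have hle : ((centralizerIn S R).subgroupOf (normalizerIn S V)).map η ≤ centralizerIn S R' := by
      rintro _ ⟨w, hw, rfl⟩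
      exact apply_mem_centralizerIn hη hR0 rfl w hw.2
    haveI := finite_of_le (centralizerIn_le S R')
    have heq := Subgroup.eq_of_le_of_card_ge hle (by
      rw [Subgroup.card_map_of_injective (F.injective_of_mem hη),
        Nat.card_congr (Subgroup.subgroupOfEquivOfLe hCR).toEquiv]
      exact (centralized_automized_of_fullyNormalized h.pgroup h.saturated hn).1.2 R' hconjR)
    refine le_trans ?_ (heq.ge.trans (Subgroup.map_mono (Subgroup.comap_mono
      ((centralizerIn_le_xset S R).trans le_sup_right))))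
    exact inf_le_inf_left _ (Subgroup.centralizer_le
      ((Subgroup.map_mono (Subgroup.comap_mono hRV)).trans hηm.le))
  set b' := MulAut.congr f b with hb'
  have hb'V : Agree b' (MulAut.congr e kA) := hbk.congr hfe le_sup_left
  have hst : ∀ (x : Ω) (hx : x ∈ Y'), x ∈ xset S V' → ((b' ⟨x, hx⟩ : Y') : Ω) ∈ xset S V' := by
    intro x hx hxA
    have hsub : xset S V' ≤ (((xset S V').subgroupOf Y').comap b'.toMonoidHom).map Y'.subtype := by
      refine sup_le (fun q hq => ⟨⟨q, hA (le_xset S V' hq)⟩, ?_, rfl⟩)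
        (fun c hc => ⟨⟨c, hA (centralizerIn_le_xset S V' hc)⟩, ?_, rfl⟩)
      · show ((b' _ : Y') : Ω) ∈ xset S V'
        rw [hb'V q _ hq]
        exact le_xset S V' (MulAut.congr e kA ⟨q, hq⟩).2
      · show ((b' _ : Y') : Ω) ∈ xset S V'
        refine centralizerIn_le_xset S V' ⟨hY'S (b' _).2, fun y hy => ?_⟩
        obtain ⟨q, hq⟩ := (MulAut.congr e kA).surjective ⟨y, hy⟩
        have hqY : (q : Ω) ∈ Y' := hA (le_xset S V' q.2)
        have e1 : ((b' ⟨q, hqY⟩ : Y') : Ω) = y :=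
          (hb'V q hqY q.2).trans (congrArg Subtype.val hq)
        rw [← e1, ← Subgroup.coe_mul, ← Subgroup.coe_mul, ← map_mul, ← map_mul]
        exact congrArg (fun w : Y' => ((b' w : Y') : Ω)) (Subtype.ext (hc.2 q q.2))
    obtain ⟨w, hw, hwx⟩ := hsub hxA
    rw [show w = (⟨x, hx⟩ : Y') from Subtype.ext hwx] at hw
    exact hw
  obtain ⟨ψ, hψ, hb'ψ⟩ := exists_autAgree (CfsgLib.FusionBasics.congr_mem hf hb) hY'S hA hst
  have hgood : IsGood F E₁ E₂ V' (MulAut.congr e kA) := by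
    refine ⟨ψ, hψ, fun x hX hV => ?_, fun x => ?_,
      restrictsIn_of_big h h.inv₁ h.normal₁.1.1 inf_le_left hR hn hYS le_sup_right hYN hb hbord
        hbX hKrel.1.1 hf hA hb'ψ,
      restrictsIn_of_big h h.inv₂ h.normal₂.1.1 inf_le_right hR hn hYS le_sup_right hYN hb hbord
        hbX hKrel.2.1 hf hA hb'ψ⟩
    · exact (hb'ψ x (hA hX) hX).symm.trans (hb'V x (hA hX) hV)
    · rw [← hb'ψ x (hA x.2) x.2]
      obtain ⟨y, hy⟩ := f.surjective ⟨x, hA x.2⟩
      rw [← hy, congr_apply_coe]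
      show (((⟨x, hA x.2⟩ : Y') : Ω))⁻¹ * _ ∈ _
      rw [← hy, ← Subgroup.coe_inv, ← Subgroup.coe_mul, ← map_inv, ← map_mul]
      exact (InHom.mem_iff h.closed hf _).mp (hbdisp y)
  refine ⟨kA, Subgroup.subset_closure ⟨V', e, he, Or.inl ⟨hV'n, ?_, hgood⟩⟩, hkm⟩
  exact Nat.Coprime.coprime_dvd_left (orderOf_dvd_of_agree hbk le_sup_left) hbord

end CfsgLib.FusionBasics.Meet
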